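import Mathlib
import Cfsg.Agent.H37.NW.Ctx

/-!
# Navarro–Wolf: quotients of a minimal counterexample
-/

set_option autoImplicit false
set_option linter.style.haveILetI false
set_option linter.unusedSectionVars false

open Cfsg

namespace Cfsg.Agent.H37.NW

open Cfsg.Agent.Characters.Core Cfsg.Agent.Characters.Clifford Cfsg.Agent.H672
open Cfsg.Agent.H672.RM (over_lin_iff)
open Cfsg.Agent.H586.GW
open scoped commutatorElement

universe u

variable {p q : ℕ} [hp : Fact p.Prime] [hq : Fact q.Prime] {G : Type u} [Group G] [Finite G]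
  {Z : Subgroup G} {l : Z →* ℂˣ}

theorem Ctx.disj (C : Ctx p q Z l) {D : Subgroup G} (hDq : IsPGroup q D) : Disjoint Z D := by
  obtain ⟨k, hk⟩ := IsPGroup.iff_card.1 hDq
  refine Subgroup.disjoint_of_coprime_natCard ?_
  rw [hk]
  exact (Nat.Coprime.pow_left k ((Nat.Prime.coprime_iff_not_dvd hq.out).2 C.qZ)).symm

/-- the quotient by a normal `q`-subgroup -/
theorem Ctx.quot (C : Ctx p q Z l) {D : Subgroup G} [D.Normal] (hDq : IsPGroup q D) :
    ∃ l' : Z.map (QuotientGroup.mk' D) →* ℂˣ,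
      Z.map (QuotientGroup.mk' D) ≤ Subgroup.center (G ⧸ D) ∧
      ¬ q ∣ Nat.card (Z.map (QuotientGroup.mk' D)) ∧
      (Z.map (QuotientGroup.mk' D)).index = (Z ⊔ D).index ∧
      RelP p (Z.map (QuotientGroup.mk' D)).subtype (lf l') := by
  classical
  let mk := QuotientGroup.mk' D
  have hmk : Function.Surjective mk := QuotientGroup.mk'_surjective D
  have hker : mk.ker = D := QuotientGroup.ker_mk' D
  let f : Z →* Z.map mk := (mk.comp Z.subtype).codRestrict (Z.map mk) (fun z => ⟨z, z.2, rfl⟩)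
  have hf : Function.Surjective f := by
    rintro ⟨_, z, hz, rfl⟩
    exact ⟨⟨z, hz⟩, rfl⟩
  have hfi : Function.Injective f := by
    rw [injective_iff_map_eq_one]
    intro z hz
    have h1 : mk (z : G) = 1 := congrArg Subtype.val hz
    have h2 : (z : G) ∈ D := (QuotientGroup.eq_one_iff _).1 h1
    exact Subtype.ext (Subgroup.disjoint_def.1 (C.disj hDq) z.2 h2)
  let e : Z ≃* Z.map mk := MulEquiv.ofBijective f ⟨hfi, hf⟩
  let l' : Z.map mk →* ℂˣ := l.comp e.symm.toMonoidHom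
  have hl' : ∀ z, l' (f z) = l z := by
    intro z
    change l (e.symm (e z)) = l z
    rw [e.symm_apply_apply]
  have hcen : Z.map mk ≤ Subgroup.center (G ⧸ D) := by
    rintro _ ⟨z, hz, rfl⟩
    rw [Subgroup.mem_center_iff]
    intro x
    obtain ⟨x, rfl⟩ := hmk x
    rw [← map_mul, ← map_mul, Subgroup.mem_center_iff.1 (C.cen hz) x]
  refine ⟨l', hcen, ?_, ?_, ?_⟩
  · rw [← Nat.card_congr e.toEquiv]
    exact C.qZ
  · rw [← Subgroup.index_comap_of_surjective _ hmk, Subgroup.comap_map_eq, hker]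
  · intro χ hχ hov hd
    have h1 : IsIrrCharacter G (χ ∘ mk) := isIrr_comp mk hmk hχ
    refine C.rel (χ ∘ mk) h1 ?_ ?_
    · rw [over_lin_iff Z.subtype (fun z => C.cen z.2) h1]
      rw [over_lin_iff (Z.map mk).subtype (fun z => hcen z.2) hχ] at hov
      intro z
      have h2 := hov (f z)
      rw [hl'] at h2
      change χ (mk z) = χ (mk 1) * _
      rw [map_one]
      exact h2
    · rw [charDegree_comp_one, charDegree_lf]
      rwa [charDegree_lf] at hd

theorem Ctx.index_lt (C : Ctx p q Z l) {D : Subgroup G} (hDn : D.Normal) (hDq : IsPGroup q D)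
    (hD : D ≠ ⊥) : (Z ⊔ D).index < Z.index ∧ p ∣ (Z ⊔ D).index := by
  haveI := C.zn
  have h4 : Z.relIndex (Z ⊔ D) * (Z ⊔ D).index = Z.index := Subgroup.relIndex_mul_index le_sup_left
  have h5 : Z.relIndex (Z ⊔ D) = Nat.card D := by
    rw [sup_comm, Subgroup.relIndex_sup_right, ← Subgroup.relIndex_bot_left]
    rw [← Subgroup.inf_relIndex_right, (C.disj hDq).eq_bot]
  have h6 : (Z ⊔ D).index ≠ 0 := Subgroup.index_ne_zero_of_finite
  have h7 : 2 ≤ Nat.card D := by
    have h8 : Nat.card D ≠ 1 := fun h => hD (Subgroup.card_eq_one.1 h)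
    have h9 : Nat.card D ≠ 0 := Nat.card_pos.ne'
    omega
  rw [h5] at h4
  constructor
  · rw [← h4]
    nlinarith [Nat.pos_of_ne_zero h6]
  · have h8 := C.dvd
    rw [← h4] at h8
    refine (hp.out.dvd_mul.1 h8).resolve_left ?_
    obtain ⟨k, hk⟩ := IsPGroup.iff_card.1 hDq
    rw [hk]
    intro h9
    exact C.ne ((Nat.prime_dvd_prime_iff_eq hp.out hq.out).1 (hp.out.dvd_of_dvd_pow h9))

theorem Ctx.up (C : Ctx p q Z l) {D : Subgroup G} (hDn : D.Normal) (hDq : IsPGroup q D)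
    (hD : D ≠ ⊥) : ∃ L : Subgroup G, L.Normal ∧ D ≤ L ∧ ¬ q ∣ D.relIndex L ∧ ¬ L ≤ Z ⊔ D := by
  classical
  let mk := QuotientGroup.mk' D
  have hmk : Function.Surjective mk := QuotientGroup.mk'_surjective D
  have hker : mk.ker = D := QuotientGroup.ker_mk' D
  obtain ⟨l', hcen, hqZ, hidx, hrel⟩ := C.quot hDq
  obtain ⟨hlt, hpd⟩ := C.index_lt hDn hDq hD
  haveI : (Z.map mk).Normal := center_normal _ hcen
  have hne : pPrimeCore q (G ⧸ D) ≠ Z.map mk := by
    intro h
    refine C.ih _ hlt (Z.map mk) (lf l') (isIrr_lf l') (inertia_central hcen _)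
      (Cfsg.Agent.Lib.PSolvable.IsPSolvable_of_surjective p C.ps mk hmk)
      (Cfsg.Agent.Lib.PSolvable.IsPSolvable_of_surjective q C.qs mk hmk) h hidx hrel hpd
  have hle : Z.map mk ≤ pPrimeCore q (G ⧸ D) := Cfsg.Agent.Lib.Cores.le_pPrimeCore inferInstance
    ((Nat.Prime.coprime_iff_not_dvd hq.out).2 hqZ).symm
  let E := pPrimeCore q (G ⧸ D)
  have hEn : E.Normal := Cfsg.Agent.Lib.Cores.pPrimeCore_normal q
  have hDL : D ≤ E.comap mk := by
    intro x hx
    show mk x ∈ E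
    have : mk x = 1 := (QuotientGroup.eq_one_iff x).2 hx
    rw [this]
    exact one_mem E
  refine ⟨E.comap mk, hEn.comap mk, hDL, ?_, ?_⟩
  · have h1 : D.relIndex (E.comap mk) = Nat.card E := by
      have h2 : (⊥ : Subgroup (G ⧸ D)).comap mk = D := by
        rw [MonoidHom.comap_bot, hker]
      rw [← Subgroup.relIndex_bot_left, ← Subgroup.map_comap_eq_self_of_surjective hmk E,
        ← Subgroup.relIndex_comap, h2, Subgroup.map_comap_eq_self_of_surjective hmk E]
    rw [h1]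
    intro h
    have h3 := Nat.dvd_gcd h (dvd_refl q)
    rw [(Cfsg.Agent.Lib.Cores.pPrimeCore_coprime (G := G ⧸ D) q : (Nat.card E).Coprime q)] at h3
    exact hq.out.one_lt.ne' (Nat.dvd_one.1 h3)
  · intro h
    apply hne
    refine le_antisymm ?_ hle
    have h1 := Subgroup.map_mono (f := mk) h
    rw [Subgroup.map_comap_eq_self_of_surjective hmk, Subgroup.map_sup] at h1
    have h2 : D.map mk = ⊥ := by rw [Subgroup.map_eq_bot_iff, hker]
    rwa [h2, sup_bot_eq] at h1

/-- A Sylow `p`-subgroup centralises every normal `q`-subgroup modulo `D`. -/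
theorem Ctx.cz (C : Ctx p q Z l) {D : Subgroup G} (hDn : D.Normal) (hDq : IsPGroup q D)
    (hD : D ≠ ⊥) {U : Subgroup G} (hU : U.Normal) (hUq : IsPGroup q U) {x : G}
    {k : ℕ} (hx : x ^ p ^ k = 1) {u : G} (hu : u ∈ U) : ⁅x, u⁆ ∈ D := by
  classical
  let mk := QuotientGroup.mk' D
  have hmk : Function.Surjective mk := QuotientGroup.mk'_surjective D
  have hker : mk.ker = D := QuotientGroup.ker_mk' D
  obtain ⟨l', hcen, hqZ, hidx, hrel⟩ := C.quot hDq
  obtain ⟨hlt, hpd⟩ := C.index_lt hDn hDq hD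
  haveI : (Z.map mk).Normal := center_normal _ hcen
  have hUn : (U.map mk).Normal := hU.map mk hmk
  obtain ⟨P, hP⟩ := exists_sylow_centralizer (p := p) (q := q) (n := (Z ⊔ D).index)
    (fun k hk => C.ih k (hk.trans_lt hlt)) _ le_rfl (Z.map mk) (lf l') (isIrr_lf l')
    (Cfsg.Agent.Lib.PSolvable.IsPSolvable_of_surjective p C.ps mk hmk)
    (Cfsg.Agent.Lib.PSolvable.IsPSolvable_of_surjective q C.qs mk hmk) hqZ hidx hrel
    (U.map mk) hUn (hUq.map mk)
  -- conjugate
  have hxp : IsPGroup p (Subgroup.zpowers (mk x)) := by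
    rw [IsPGroup.iff_orderOf]
    rintro ⟨_, i, rfl⟩
    have h1 : (mk x ^ i) ^ p ^ k = 1 := by
      rw [← zpow_natCast, ← zpow_mul, mul_comm, zpow_mul, zpow_natCast, ← map_pow, hx, map_one,
        one_zpow]
    obtain ⟨j, -, hj⟩ := (Nat.dvd_prime_pow hp.out).1 (orderOf_dvd_of_pow_eq_one h1)
    refine ⟨j, ?_⟩
    rw [← hj]
    exact Subgroup.orderOf_mk _ _
  obtain ⟨S, hS⟩ := hxp.exists_le_sylow
  obtain ⟨g, rfl⟩ := MulAction.exists_smul_eq (G ⧸ D) P S
  have h1 : mk x ∈ ((g • P : Sylow p (G ⧸ D)) : Subgroup (G ⧸ D)) := hS (Subgroup.mem_zpowers _)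
  rw [Sylow.coe_subgroup_smul, Subgroup.mem_pointwise_smul_iff_inv_smul_mem] at h1
  have h2 := Subgroup.mem_centralizer_iff.1 (hP h1) (g⁻¹ * mk u * g) (by
    have := hUn.conj_mem (mk u) ⟨u, hu, rfl⟩ g⁻¹
    simpa using this)
  have h3 : mk u * mk x = mk x * mk u := by
    have h4 : (MulAut.conj g)⁻¹ • mk x = g⁻¹ * mk x * g := by
      simp [MulAut.smul_def]
    rw [h4] at h2
    have h5 := congrArg (fun y => g * y * g⁻¹) h2
    simp only [mul_assoc] at h5
    simpa [mul_assoc] using h5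
  rw [← QuotientGroup.eq_one_iff]
  change mk ⁅x, u⁆ = 1
  rw [map_commutatorElement, commutatorElement_eq_one_iff_mul_comm]
  exact h3.symm

end Cfsg.Agent.H37.NW
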