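import Mathlib
import Cfsg.Agent.H37.NW.Str
import Cfsg.Agent.H586.GW.CoreOf

/-!
# Navarro–Wolf: the core situation of a minimal counterexample
-/

set_option autoImplicit false
set_option linter.style.haveILetI false
set_option linter.unusedSectionVars false

open Cfsg

namespace Cfsg.Agent.H37.NW

open Cfsg.Agent.Characters.Core Cfsg.Agent.Characters.Clifford Cfsg.Agent.H672
open Cfsg.Agent.H672.RM (over_lin_iff)
open Cfsg.Agent.H586.GW
open scoped commutatorElement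

universe u

variable {p q : ℕ} [hp : Fact p.Prime] [hq : Fact q.Prime] {G : Type u} [Group G] [Finite G]
  {Z U X K Y : Subgroup G} {l : Z →* ℂˣ}

theorem Ctx.relY (C : Ctx p q Z l) [Y.Normal] (hZY : Z ≤ Y) (lam : Y →* ℂˣ)
    (h : ∀ z (hz : z ∈ Z), lam ⟨z, hZY hz⟩ = l ⟨z, hz⟩) : RelP p Y.subtype (lf lam) := by
  haveI := C.zn
  refine C.rel.up Z (isIrr_lf l) (charDegree_lf l) Y hZY (isIrr_lf lam) ?_
  have hcY : ∀ n, Subgroup.inclusion hZY n ∈ Subgroup.center Y := by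
    intro n
    rw [Subgroup.mem_center_iff]
    intro g
    exact Subtype.ext (Subgroup.mem_center_iff.1 (C.cen n.2) (g : G))
  rw [over_lin_iff _ hcY (isIrr_lf lam)]
  intro n
  rw [lf_apply, lf_apply, map_one, Units.val_one, one_mul]
  exact congrArg Units.val (h n n.2)

theorem Ctx.idxT (C : Ctx p q Z l) [Y.Normal] (hZY : Z ≤ Y) (lam : Y →* ℂˣ)
    (h : ∀ z (hz : z ∈ Z), lam ⟨z, hZY hz⟩ = l ⟨z, hz⟩) : ¬ p ∣ (inertia Y (lf lam)).index :=
  (C.relY hZY lam h).not_dvd_index Y (isIrr_lf lam)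

theorem Ctx.inv (C : Ctx p q Z l) [Y.Normal] (hZY : Z ≤ Y) (lam : Y →* ℂˣ)
    (h : ∀ z (hz : z ∈ Z), lam ⟨z, hZY hz⟩ = l ⟨z, hz⟩) (hKn : K.Normal) (hKi : K.index = p)
    (X : Subgroup G)
    (hX : X = K ⊓ inertia Y (lf lam)) (hYX : Y ≤ X) {ψ : X → ℂ} (hψ : IsIrrCharacter X ψ)
    (hover : ∀ y : Y, ψ ⟨y, hYX y.2⟩ = ψ 1 * lam y) {t : G} (ht : cj t lam = lam) (k : X)
    (hk : t * k * t⁻¹ ∈ X) : ψ ⟨t * k * t⁻¹, hk⟩ = ψ k := by
  classical
  set T := inertia Y (lf lam) with hT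
  have hXT : X ≤ T := by rw [hX]; exact inf_le_right
  have hYT : Y ≤ T := hYX.trans hXT
  have hrel := (C.relY hZY lam h).inertia Y (isIrr_lf lam) T hT hYT
  let f : X →* T := Subgroup.inclusion hXT
  have hf : Function.Injective f := Subgroup.inclusion_injective _
  have hr : f.range = X.subgroupOf T := Subgroup.inclusion_range _
  have hXK : X.subgroupOf T = K.subgroupOf T := by
    rw [hX]
    exact Subgroup.inf_subgroupOf_right K T
  have hn : f.range.Normal := by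
    rw [hr, hXK]
    infer_instance
  have hidx : f.range.index ∣ p ^ 1 := by
    rw [hr, hXK, pow_one, ← hKi]
    exact Subgroup.relIndex_dvd_index_of_normal K T
  obtain ⟨χ, hχ, h1⟩ := exists_over_inj f hf hψ
  letI := Fintype.ofFinite Y
  have h2 : Over (Subgroup.inclusion hYX) ψ (lf lam) := by
    rw [over_iff]
    have e : ψ ∘ (Subgroup.inclusion hYX) = ψ 1 • lf lam := by
      funext y
      exact hover y
    rw [e, classInner_smul_left, classInner_irr_self (isIrr_lf lam), mul_one]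
    exact isIrr_apply_one_ne_zero hψ
  have h3 : Over (Subgroup.inclusion hYT) χ (lf lam) := by
    have e : f.comp (Subgroup.inclusion hYX) = Subgroup.inclusion hYT := rfl
    rw [← e]
    exact (over_comp_iff _ _ (isIrr_isCharacter hχ) (isIrr_lf lam)).2 ⟨ψ, hψ, h1, h2⟩
  have h4 := hrel χ hχ h3
  rw [charDegree_lf, mul_one] at h4
  have h5 := comp_eq_of_pindex f hf hn hp.out hidx hχ h4 hψ h1
  have ht' : t ∈ T := (mem_inertia_iff_cj t lam).2 ht
  have h6 : ψ ⟨t * k * t⁻¹, hk⟩ = χ (⟨t, ht'⟩ * f k * ⟨t, ht'⟩⁻¹) := by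
    rw [← h5]
    rfl
  rw [h6, isIrr_isClassFunction hχ, ← h5]
  rfl

/-- the retraction onto a complement -/
theorem exists_retract (hUn : U.Normal) (h1 : U ⊓ X = ⊥) (h2 : U ⊔ X = ⊤) :
    ∃ r : G →* G, (∀ g, r g ∈ X) ∧ (∀ x ∈ X, r x = x) ∧ (∀ u ∈ U, r u = 1) ∧
      ∀ g, g * (r g)⁻¹ ∈ U := by
  classical
  let mk := QuotientGroup.mk' U
  have hmk1 : ∀ g, mk g = 1 ↔ g ∈ U := fun g => QuotientGroup.eq_one_iff g
  let f : X →* G ⧸ U := mk.comp X.subtype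
  have hf : Function.Injective f := by
    rw [injective_iff_map_eq_one]
    intro x hx
    have h3 : (x : G) ∈ U ⊓ X := ⟨(hmk1 x).1 hx, x.2⟩
    rw [h1, Subgroup.mem_bot] at h3
    exact Subtype.ext h3
  have hfs : Function.Surjective f := by
    intro y
    obtain ⟨g, rfl⟩ := QuotientGroup.mk'_surjective U y
    have hg : g ∈ U ⊔ X := by rw [h2]; trivial
    obtain ⟨u, hu, x, hx, rfl⟩ := Subgroup.mem_sup_of_normal_left.1 hg
    refine ⟨⟨x, hx⟩, ?_⟩
    change mk x = mk (u * x)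
    rw [map_mul, (hmk1 u).2 hu, one_mul]
  let e : X ≃* G ⧸ U := MulEquiv.ofBijective f ⟨hf, hfs⟩
  have he : ∀ x, e x = mk x := fun _ => rfl
  refine ⟨X.subtype.comp (e.symm.toMonoidHom.comp mk), fun g => (e.symm (mk g)).2, ?_, ?_, ?_⟩
  · intro x hx
    change ((e.symm (mk x) : X) : G) = x
    have : mk x = e ⟨x, hx⟩ := rfl
    rw [this, e.symm_apply_apply]
  · intro u hu
    change ((e.symm (mk u) : X) : G) = 1
    rw [(hmk1 u).2 hu, map_one]
    rfl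
  · intro g
    change g * ((e.symm (mk g) : X) : G)⁻¹ ∈ U
    rw [← hmk1, map_mul, map_inv, ← he, e.apply_symm_apply, mul_inv_cancel]

/-- extension of a character to its stabilizer, in the presence of a complement -/
theorem exists_kappa (_hUn : U.Normal) [Y.Normal] (hZY : Z ≤ Y) (hUY : U ≤ Y)
    (r : G →* G) (hrY : ∀ y ∈ Y, r y ∈ Z) (hrU : ∀ g, g * (r g)⁻¹ ∈ U)
    (hab : ∀ a ∈ Y, ∀ b ∈ Y, a * b = b * a)
    {w : Y →* ℂˣ} (hw : w ∈ tr Z Y) :
    ∃ κ : inertia Y (lf w) →* ℂˣ, ∀ (y : G) (hy : y ∈ Y) (hy' : y ∈ inertia Y (lf w)),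
      κ ⟨y, hy'⟩ = w ⟨y, hy⟩ := by
  classical
  set T := inertia Y (lf w) with hT
  have hrT : ∀ g ∈ T, cj (r g) w = w := by
    intro g hg
    have h1 : r g = (g * (r g)⁻¹)⁻¹ * g := by group
    rw [h1, cj_mul, (mem_inertia_iff_cj g w).1 hg, cj_of_mem hab]
    exact Y.inv_mem (hUY (hrU g))
  let F : T → ℂˣ := fun g => w ⟨(g : G) * (r g)⁻¹, hUY (hrU g)⟩
  have hF1 : F 1 = 1 := by
    have : (⟨((1 : T) : G) * (r (1 : T))⁻¹, hUY (hrU _)⟩ : Y) = 1 := Subtype.ext (by simp)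
    change w _ = 1
    rw [this, map_one]
  have hFm : ∀ a b, F (a * b) = F a * F b := by
    intro a b
    have h1 : (⟨((a * b : T) : G) * (r (a * b : T))⁻¹, hUY (hrU _)⟩ : Y) =
        ⟨(a : G) * (r a)⁻¹, hUY (hrU a)⟩ *
          MulAut.conjNormal (r a) ⟨(b : G) * (r b)⁻¹, hUY (hrU b)⟩ := by
      apply Subtype.ext
      change (a : G) * b * (r (a * b))⁻¹ = (a : G) * (r a)⁻¹ * (r a * (b * (r b)⁻¹) * (r a)⁻¹)
      rw [map_mul]
      group
    change w _ = w _ * w _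
    rw [h1, map_mul, (cj_eq_iff (r a) w).1 (hrT a a.2)]
  let κ : T →* ℂˣ :=
    { toFun := F
      map_one' := hF1
      map_mul' := hFm }
  refine ⟨κ, ?_⟩
  · intro y hy hy'
    change w ⟨y * (r y)⁻¹, _⟩ = w ⟨y, hy⟩
    have h1 : (⟨y * (r y)⁻¹, hUY (hrU y)⟩ : Y) = ⟨y, hy⟩ * ⟨(r y)⁻¹, hZY (Z.inv_mem (hrY y hy))⟩ :=
      rfl
    rw [h1, map_mul, hw ⟨(r y)⁻¹, _⟩ (Z.inv_mem (hrY y hy)), mul_one]

end Cfsg.Agent.H37.NW
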