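import Mathlib
import Cfsg.Agent.H37.NW.ToCore
import Cfsg.Agent.H586.GW.Final

/-!
# Navarro–Wolf: the core situation of a minimal counterexample
-/

set_option autoImplicit false
set_option linter.style.haveILetI false
set_option linter.unusedSectionVars false

open Cfsg

namespace Cfsg.Agent.H37.NW

open Cfsg.Agent.Characters.Core Cfsg.Agent.Characters.Clifford Cfsg.Agent.H672
open Cfsg.Agent.H672.RM (over_lin_iff)
open Cfsg.Agent.H586.GW
open scoped commutatorElement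

universe u

variable {p q : ℕ} [hp : Fact p.Prime] [hq : Fact q.Prime] {G : Type u} [Group G] [Finite G]
  {Z U X K Y : Subgroup G} {l : Z →* ℂˣ}

theorem core_of_fin (F : Fin p q Z U X K l) :
    ∃ (H V : Type u) (_ : Group H) (_ : Finite H) (_ : AddCommGroup V) (_ : Finite V)
      (_ : DistribMulAction H V) (K' N : Subgroup H) (φ : N →* ℂˣ),
      IsPSolvable q H ∧ Core (V := V) p q K' N φ := by
  classical
  have C := F.ctx
  haveI hZn := C.zn
  haveI hKn := F.nK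
  haveI hUn : U.Normal := by rw [F.U_eq]; exact Cfsg.Agent.Lib.Cores.pCore_normal q
  have hUq : IsPGroup q U := by rw [F.U_eq]; exact Cfsg.Agent.Lib.Cores.pCore_isPGroup q
  have hUab := C.abelian hUn hUq
  have hUexp : ∀ u ∈ U, u ^ q = 1 := by rw [F.U_eq]; exact C.exp
  have hUmin : ∀ W : Subgroup G, W.Normal → W ≤ U → W = ⊥ ∨ W = U := by
    rw [F.U_eq]
    exact fun W h1 h2 => C.minimal h1 h2
  have hUne : U ≠ ⊥ := by rw [F.U_eq]; exact C.U_ne
  have hcent : ∀ g : G, (∀ u ∈ U, g * u = u * g) → g ∈ U ⊔ Z := by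
    rw [F.U_eq]
    exact fun g h => C.cent h
  have hZU : ∀ g, g ∈ Z → g ∈ U → g = 1 := fun g h1 h2 =>
    Subgroup.disjoint_def.1 (C.disj hUq) h1 h2
  -- `Y = Z × U`
  obtain ⟨Y, hY⟩ : ∃ Y : Subgroup G, Y = Z ⊔ U := ⟨_, rfl⟩
  haveI hYn : Y.Normal := by rw [hY]; infer_instance
  have hZY : Z ≤ Y := by rw [hY]; exact le_sup_left
  have hUY : U ≤ Y := by rw [hY]; exact le_sup_right
  have hYK : Y ≤ K := by rw [hY]; exact sup_le F.ZK F.UK
  have hYd : ∀ y ∈ Y, ∃ z ∈ Z, ∃ u ∈ U, y = z * u := by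
    intro y hy
    rw [hY] at hy
    obtain ⟨z, hz, u, hu, h⟩ := Subgroup.mem_sup_of_normal_left.1 hy
    exact ⟨z, hz, u, hu, h.symm⟩
  have hcom : ∀ z ∈ Z, ∀ g : G, z * g = g * z := fun z hz g =>
    (Subgroup.mem_center_iff.1 (C.cen hz) g).symm
  have hYab : ∀ a ∈ Y, ∀ b ∈ Y, a * b = b * a := by
    intro a ha b hb
    obtain ⟨z, hz, u, hu, rfl⟩ := hYd a ha
    obtain ⟨z', hz', u', hu', rfl⟩ := hYd b hb
    calc z * u * (z' * u') = z * (z' * (u * u')) := by rw [mul_assoc, ← mul_assoc u, ← hcom z' hz' u]; simp only [mul_assoc]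
      _ = z' * u' * (z * u) := by rw [hUab u hu u' hu', ← mul_assoc, hcom z hz z', mul_assoc z' u', ← mul_assoc u', ← hcom z hz u']; simp only [mul_assoc]
  obtain ⟨r, hrX, hrid, hr1, hrU⟩ := exists_retract hUn F.disj F.sup
  have hrz : ∀ z ∈ Z, ∀ u ∈ U, r (z * u) = z := by
    intro z hz u hu
    rw [map_mul, hrid z (F.ZX hz), hr1 u hu, mul_one]
  have hrY : ∀ y ∈ Y, r y ∈ Z := by
    intro y hy
    obtain ⟨z, hz, u, hu, rfl⟩ := hYd y hy
    rw [hrz z hz u hu]
    exact hz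
  let rZ : Y →* Z := (r.comp Y.subtype).codRestrict Z (fun y => hrY y y.2)
  let μ : Y →* ℂˣ := l.comp rZ
  have hμr : ∀ (y : G) (hy : y ∈ Y), μ ⟨y, hy⟩ = l ⟨r y, hrY y hy⟩ := fun _ _ => rfl
  have hμl : ∀ z (hz : z ∈ Z), μ ⟨z, hZY hz⟩ = l ⟨z, hz⟩ := by
    intro z hz
    rw [hμr]
    congr 1
    exact Subtype.ext (hrid z (F.ZX hz))
  have hμ : ∀ g : G, cj g μ = μ := by
    intro g
    rw [cj_eq_iff]
    rintro ⟨y, hy⟩
    obtain ⟨z, hz, u, hu, h⟩ := hYd y hy
    have h1 : (MulAut.conjNormal g (⟨y, hy⟩ : Y) : G) = z * (g * u * g⁻¹) := by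
      rw [MulAut.conjNormal_apply]
      change g * y * g⁻¹ = _
      rw [h, ← mul_assoc g z, ← hcom z hz g]
      simp only [mul_assoc]
    have h2 : r (MulAut.conjNormal g (⟨y, hy⟩ : Y) : G) = z := by
      rw [h1]
      exact hrz z hz _ (hUn.conj_mem u hu g)
    have h3 : r y = z := by
      rw [h]
      exact hrz z hz u hu
    change l ⟨r (MulAut.conjNormal g (⟨y, hy⟩ : Y) : G), _⟩ = l ⟨r y, _⟩
    congr 1
    exact Subtype.ext (h2.trans h3.symm)
  have hμU : ∀ u (hu : u ∈ U), μ ⟨u, hUY hu⟩ = 1 := by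
    intro u hu
    rw [hμr, ← map_one l]
    congr 1
    exact Subtype.ext (hr1 u hu)
  -- the quotient
  let mk : G →* G ⧸ U := QuotientGroup.mk' U
  have hmk : Function.Surjective mk := QuotientGroup.mk'_surjective U
  have hker : mk.ker = U := QuotientGroup.ker_mk' U
  have hmk1 : ∀ g, mk g = 1 ↔ g ∈ U := fun g => QuotientGroup.eq_one_iff g
  have hcomapY : (Y.map mk).comap mk = Y := by
    rw [Subgroup.comap_map_eq, hker, sup_eq_left.2 hUY]
  have hcomapK : (K.map mk).comap mk = K := by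
    rw [Subgroup.comap_map_eq, hker, sup_eq_left.2 F.UK]
  let ρ : G ⧸ U →* AddMonoid.End (Additive (tr Z Y)) := QuotientGroup.lift U (actG Z Y) (by
    intro g hg
    ext v : 1
    exact Subtype.ext (cj_of_mem hYab (hUY hg) _))
  letI act : DistribMulAction (G ⧸ U) (Additive (tr Z Y)) :=
    DistribMulAction.compHom (Additive (tr Z Y)) ρ
  have hsmul : ∀ (g : G) (v : Additive (tr Z Y)),
      ((mk g • v).toMul : Y →* ℂˣ) = cj g (v.toMul : Y →* ℂˣ) := fun _ _ => rfl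
  have hsmul' : ∀ (g : G) (v : Additive (tr Z Y)), mk g • v = v ↔
      cj g (v.toMul : Y →* ℂˣ) = v.toMul := by
    intro g v
    constructor
    · intro h
      rw [← hsmul, h]
    · intro h
      exact Subtype.ext h
  let N : Subgroup (G ⧸ U) := Y.map mk
  let f : Y →* N := (mk.comp Y.subtype).codRestrict N (fun y => ⟨y, y.2, rfl⟩)
  have hf : Function.Surjective f := by
    rintro ⟨_, y, hy, rfl⟩
    exact ⟨⟨y, hy⟩, rfl⟩
  have hkf : f.ker ≤ μ.ker := by
    intro y hy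
    have h1 : mk (y : G) = 1 := congrArg Subtype.val (MonoidHom.mem_ker.1 hy)
    exact hμU y ((hmk1 _).1 h1)
  let φ : N →* ℂˣ := f.liftOfSurjective hf ⟨μ, hkf⟩
  have hφ : ∀ y, φ (f y) = μ y := fun y => MonoidHom.liftOfRightInverse_comp_apply _ _ _ _ _
  have hinj : Function.Injective φ := by
    rw [injective_iff_map_eq_one]
    intro y hy
    obtain ⟨⟨y, hyY⟩, rfl⟩ := hf y
    rw [hφ, hμr] at hy
    have h1 : (⟨r y, hrY y hyY⟩ : Z) = 1 := C.inj (by rw [hy, map_one])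
    have h2 : r y = 1 := congrArg Subtype.val h1
    apply Subtype.ext
    refine (hmk1 _).2 ?_
    have h3 := hrU y
    rw [h2, inv_one, mul_one] at h3
    exact h3
  have hqN : ∀ g, mk g ∈ N ↔ g ∈ Y := by
    intro g
    have : g ∈ (Y.map mk).comap mk ↔ g ∈ Y := by rw [hcomapY]
    exact this
  have hqK : ∀ g, mk g ∈ K.map mk ↔ g ∈ K := by
    intro g
    have : g ∈ (K.map mk).comap mk ↔ g ∈ K := by rw [hcomapK]
    exact this
  have hcen : N ≤ Subgroup.center (G ⧸ U) := by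
    rintro _ ⟨y, hy, rfl⟩
    obtain ⟨z, hz, u, hu, rfl⟩ := hYd y hy
    rw [Subgroup.mem_center_iff]
    intro x
    obtain ⟨g, rfl⟩ := hmk x
    rw [map_mul, (hmk1 u).2 hu, mul_one, ← map_mul, ← map_mul, hcom z hz g]
  have hextr : ∀ (w : Y →* ℂˣ), w ∈ tr Z Y → ∀ z (hz : z ∈ Z), (μ * w) ⟨z, hZY hz⟩ = l ⟨z, hz⟩ := by
    intro w hw z hz
    rw [MonoidHom.mul_apply, hμl, hw _ hz, mul_one]
  have hcjlam : ∀ (w : Y →* ℂˣ) (g : G), cj g (μ * w) = μ * w ↔ cj g w = w := by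
    intro w g
    constructor
    · intro h
      ext y
      have h1 := congrArg (fun F : Y →* ℂˣ => F y) h
      change cj g μ y * cj g w y = μ y * w y at h1
      rw [hμ] at h1
      rw [mul_left_cancel h1]
    · intro h
      rw [cj_hom_mul, hμ, h]
  refine ⟨G ⧸ U, Additive (tr Z Y), inferInstance, inferInstance, inferInstance, inferInstance,
    act, K.map mk, N, φ,
    Cfsg.Agent.Lib.PSolvable.IsPSolvable_of_surjective q C.qs mk hmk, ?_⟩
  refine ⟨hKn.map mk hmk, ?_, ?_, hcen, Subgroup.map_mono hYK, hinj, ?_, ?_, ?_, ?_, ?_, ?_, ?_⟩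
  · -- index
    rw [Subgroup.index_map_eq K hmk (by rw [hker]; exact F.UK), F.idx]
  · -- order prime to p
    intro hd
    exact F.pK (hd.trans (Subgroup.card_map_dvd K mk))
  · -- exponent
    intro v
    apply Subtype.ext
    ext y
    have h1 : ∀ n : ℕ, (((n • v : Additive (tr Z Y)).toMul : tr Z Y) : Y →* ℂˣ) y =
        ((v.toMul : tr Z Y) : Y →* ℂˣ) y ^ n := by
      intro n
      induction n with
      | zero => rw [zero_smul, pow_zero]; rfl
      | succ n ih => rw [succ_nsmul, pow_succ, ← ih]; rfl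
    have h2 := h1 q
    have h3 : ((v.toMul : tr Z Y) : Y →* ℂˣ) y ^ q = 1 := by
      obtain ⟨y, hy⟩ := y
      obtain ⟨z, hz, u, hu, h⟩ := hYd y hy
      have h4 : (⟨y, hy⟩ : Y) = ⟨z, hZY hz⟩ * ⟨u, hUY hu⟩ := Subtype.ext h
      rw [h4, map_mul, v.toMul.2 ⟨z, hZY hz⟩ hz, one_mul, ← map_pow]
      have h5 : (⟨u, hUY hu⟩ : Y) ^ q = 1 := Subtype.ext (hUexp u hu)
      rw [h5, map_one]
    rw [h3] at h2
    exact congrArg Units.val h2
  · -- nontrivial
    by_contra hnt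
    rw [not_nontrivial_iff_subsingleton] at hnt
    apply hUne
    rw [eq_bot_iff]
    intro u hu
    rw [Subgroup.mem_bot]
    refine hZU u (sep_tr hZn hYab ⟨u, hUY hu⟩ ?_) hu
    intro v hv
    have h1 : (Additive.ofMul (⟨v, hv⟩ : tr Z Y)) = Additive.ofMul 1 := Subsingleton.elim _ _
    have h2 : v = 1 := congrArg (fun x : Additive (tr Z Y) => (x.toMul : Y →* ℂˣ)) h1
    rw [h2]
    rfl
  · -- kernel
    intro h
    obtain ⟨g, rfl⟩ := hmk h
    rw [hqN]
    constructor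
    · intro h
      have h1 : ∀ v ∈ tr Z Y, cj g v = v := fun v hv => (hsmul' g (Additive.ofMul ⟨v, hv⟩)).1 (h _)
      rw [hY, sup_comm]
      apply hcent
      intro u hu
      have h2 : ((MulAut.conjNormal g (⟨u, hUY hu⟩ : Y) * (⟨u, hUY hu⟩ : Y)⁻¹ : Y) : G) ∈ Z := by
        apply sep_tr hZn hYab
        intro v hv
        rw [map_mul, (cj_eq_iff g v).1 (h1 v hv), map_inv, mul_inv_cancel]
      have h3 : g * u * g⁻¹ * u⁻¹ ∈ Z := h2
      have h4 := hZU _ h3 (U.mul_mem (hUn.conj_mem u hu g) (U.inv_mem hu))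
      rw [mul_inv_eq_one, mul_inv_eq_iff_eq_mul] at h4
      exact h4
    · intro h v
      exact (hsmul' g v).2 (cj_of_mem hYab h _)
  · -- irreducible
    intro W hW
    let W' : Subgroup (Y →* ℂˣ) :=
      { carrier := {v | ∃ h : v ∈ tr Z Y, Additive.ofMul (⟨v, h⟩ : tr Z Y) ∈ W}
        one_mem' := ⟨one_mem _, W.zero_mem⟩
        mul_mem' := by
          rintro a b ⟨ha, h1⟩ ⟨hb, h2⟩
          exact ⟨mul_mem ha hb, W.add_mem h1 h2⟩
        inv_mem' := by
          rintro a ⟨ha, h1⟩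
          exact ⟨inv_mem ha, W.neg_mem h1⟩ }
    have hW' : W' ≤ tr Z Y := fun v hv => hv.1
    have hst : ∀ g : G, ∀ w ∈ W', cj g w ∈ W' := by
      rintro g w ⟨hw, h1⟩
      exact ⟨cj_mem_tr hZn g hw, hW (mk g) _ h1⟩
    -- the annihilator in `U`
    let A : Subgroup G :=
      { carrier := {y | ∃ h : y ∈ U, ∀ w ∈ W', w ⟨y, hUY h⟩ = 1}
        one_mem' := ⟨one_mem _, fun w _ => map_one w⟩
        mul_mem' := by
          rintro a b ⟨ha, h1⟩ ⟨hb, h2⟩
          refine ⟨mul_mem ha hb, fun w hw => ?_⟩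
          have : (⟨a * b, hUY (mul_mem ha hb)⟩ : Y) = ⟨a, hUY ha⟩ * ⟨b, hUY hb⟩ := rfl
          rw [this, map_mul, h1 w hw, h2 w hw, mul_one]
        inv_mem' := by
          rintro a ⟨ha, h1⟩
          refine ⟨inv_mem ha, fun w hw => ?_⟩
          have : (⟨a⁻¹, hUY (inv_mem ha)⟩ : Y) = (⟨a, hUY ha⟩ : Y)⁻¹ := rfl
          rw [this, map_inv, h1 w hw, inv_one] }
    have hAn : A.Normal := by
      constructor
      rintro y ⟨hy, h1⟩ g
      refine ⟨hUn.conj_mem y hy g, fun w hw => ?_⟩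
      have h2 := h1 (cj g⁻¹ w) (hst _ w hw)
      rw [cj_apply, inv_inv] at h2
      exact h2
    rcases hUmin A hAn (fun y hy => hy.1) with hA | hA
    · right
      have h1 : W' = tr Z Y := by
        refine eq_tr_of_ann hZn hYab hW' ?_
        rintro ⟨y, hy⟩ h2
        obtain ⟨z, hz, u, hu, h⟩ := hYd y hy
        have h3 : u ∈ A := by
          refine ⟨hu, fun w hw => ?_⟩
          have h4 : (⟨y, hy⟩ : Y) = ⟨z, hZY hz⟩ * ⟨u, hUY hu⟩ := Subtype.ext h
          have h5 := h2 w hw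
          rw [h4, map_mul, hW' hw ⟨z, hZY hz⟩ hz, one_mul] at h5
          exact h5
        rw [hA, Subgroup.mem_bot] at h3
        change y ∈ Z
        rw [h, h3, mul_one]
        exact hz
      rw [eq_top_iff]
      intro v _
      have h2 : (v.toMul : Y →* ℂˣ) ∈ W' := by rw [h1]; exact v.toMul.2
      exact h2.2
    · left
      rw [eq_bot_iff]
      intro v hv
      have h1 : (v.toMul : Y →* ℂˣ) ∈ W' := ⟨v.toMul.2, hv⟩
      rw [AddSubgroup.mem_bot]
      apply Subtype.ext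
      ext ⟨y, hy⟩
      obtain ⟨z, hz, u, hu, h⟩ := hYd y hy
      have h4 : (⟨y, hy⟩ : Y) = ⟨z, hZY hz⟩ * ⟨u, hUY hu⟩ := Subtype.ext h
      have h5 : u ∈ A := by rw [hA]; exact hu
      obtain ⟨_, h6⟩ := h5
      have h7 : ((v.toMul : tr Z Y) : Y →* ℂˣ) ⟨y, hy⟩ = 1 := by
        rw [h4, map_mul, hW' h1 ⟨z, hZY hz⟩ hz, one_mul]
        exact h6 _ h1
      exact congrArg Units.val h7
  · -- gen
    intro T hT hNT hTK
    have hZT : Z ≤ T.comap mk := by
      refine hZY.trans ?_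
      rw [← hcomapY]
      exact Subgroup.comap_mono hNT
    have h1 : T.comap mk = ⊤ := by
      by_contra hne
      refine C.low (hT.comap mk) hZT hne ?_
      have hTK' : ¬ T.comap mk ≤ K := by
        intro h
        apply hTK
        rw [← Subgroup.map_comap_eq_self_of_surjective hmk T]
        exact Subgroup.map_mono h
      -- index
      have h2 : K.relIndex (T.comap mk) ∣ p := by
        rw [← F.idx]
        exact Subgroup.relIndex_dvd_index_of_normal K _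
      have h3 : K.relIndex (T.comap mk) ≠ 1 := fun h => hTK' (Subgroup.relIndex_eq_one.1 h)
      have h4 : K.relIndex (T.comap mk) = p := ((Nat.dvd_prime hp.out).1 h2).resolve_left h3
      have h5 : p ∣ Z.relIndex (T.comap mk) := by
        have h6 := Subgroup.relIndex_dvd_of_le_left (T.comap mk) F.ZK
        rwa [h4] at h6
      exact h5
    rw [← Subgroup.map_comap_eq_self_of_surjective hmk T, h1]
    exact Subgroup.map_top_of_surjective mk hmk
  · -- P1
    intro v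
    have hv := v.toMul.2
    have h1 := C.idxT hZY (μ * (v.toMul : Y →* ℂˣ)) (hextr _ hv)
    obtain ⟨g, hg, hgK⟩ : ∃ g ∈ inertia Y (lf (μ * (v.toMul : Y →* ℂˣ))), g ∉ K := by
      by_contra hcon
      push Not at hcon
      apply h1
      rw [← F.idx]
      exact Subgroup.index_dvd_of_le hcon
    refine ⟨mk g, fun h' => hgK ((hqK g).1 h'), (hsmul' g v).2 ?_⟩
    rw [mem_inertia_iff_cj, hcjlam] at hg
    exact hg
  · -- P2
    intro v ψ hψ hψN h hh k hk hk'
    set w : Y →* ℂˣ := ((v.toMul : tr Z Y) : Y →* ℂˣ) with hw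
    have hwtr : w ∈ tr Z Y := v.toMul.2
    let lam : Y →* ℂˣ := μ * w
    have hlam : ∀ z (hz : z ∈ Z), lam ⟨z, hZY hz⟩ = l ⟨z, hz⟩ := hextr w hwtr
    let X' : Subgroup G := K ⊓ inertia Y (lf lam)
    have hmemX : ∀ g, g ∈ X' ↔ g ∈ K ∧ cj g w = w := by
      intro g
      rw [Subgroup.mem_inf, mem_inertia_iff_cj, hcjlam]
    have hYX : Y ≤ X' := fun y hy => (hmemX y).2 ⟨hYK hy, cj_of_mem hYab hy w⟩
    have hqX : ∀ g, mk g ∈ K.map mk ⊓ MulAction.stabilizer (G ⧸ U) v ↔ g ∈ X' := by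
      intro g
      rw [hmemX, Subgroup.mem_inf, hqK, MulAction.mem_stabilizer_iff, hsmul']
    let qX : X' →* ↥(K.map mk ⊓ MulAction.stabilizer (G ⧸ U) v) :=
      (mk.comp X'.subtype).codRestrict _ (fun x => (hqX x).2 x.2)
    have hqXs : Function.Surjective qX := by
      rintro ⟨x, hx⟩
      obtain ⟨g, rfl⟩ := hmk x
      exact ⟨⟨g, (hqX g).1 hx⟩, rfl⟩
    -- the extension
    obtain ⟨κ₀, hκ₀⟩ := exists_kappa hUn hZY hUY r hrY hrU hYab hwtr
    have hX'T : X' ≤ inertia Y (lf w) := fun x hx =>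
      (mem_inertia_iff_cj x w).2 ((hmemX x).1 hx).2
    let κ : X' →* ℂˣ := κ₀.comp (Subgroup.inclusion hX'T)
    have hκ1 : ∀ y : Y, κ ⟨y, hYX y.2⟩ = w y := fun y => hκ₀ y y.2 _
    have hψ1 : IsIrrCharacter X' (fun x => (κ x : ℂ) * (ψ ∘ qX) x) :=
      isIrr_mul_lf κ (isIrr_comp qX hqXs hψ)
    -- lift everything
    obtain ⟨t, rfl⟩ := hmk h
    obtain ⟨k, rfl⟩ := hmk k
    have htw : cj t w = w := (hsmul' t v).1 hh
    have hkX : k ∈ X' := (hqX k).1 hk
    have hconj : ∀ g : G, cj g w = w → ∀ x ∈ X', g * x * g⁻¹ ∈ X' := by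
      intro g hg x hx
      rw [hmemX] at hx ⊢
      refine ⟨hKn.conj_mem x hx.1 g, ?_⟩
      have h1 : cj g⁻¹ w = w := by
        conv_lhs => rw [← hg]
        rw [← cj_mul, inv_mul_cancel, cj_one]
      rw [cj_mul, cj_mul, h1, hx.2, hg]
    have hk2 : t * k * t⁻¹ ∈ X' := hconj t htw k hkX
    have hover : ∀ y : Y, (fun x => (κ x : ℂ) * (ψ ∘ qX) x) (⟨y, hYX y.2⟩ : X') =
        (fun x => (κ x : ℂ) * (ψ ∘ qX) x) (1 : X') * lam y := by
      intro y
      have h1 : κ ⟨y, hYX y.2⟩ = w y := hκ1 y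
      have h2 : ψ (qX ⟨y, hYX y.2⟩) = ψ 1 * μ y := by
        have h3 := hψN (mk y) ((hqN y).2 y.2) ((hqX y).2 (hYX y.2))
        have h4 : φ ⟨mk y, (hqN y).2 y.2⟩ = μ y := hφ y
        rw [h4] at h3
        exact h3
      simp only [Function.comp, h1, h2, map_one, Units.val_one, one_mul]
      change ((w y : ℂˣ) : ℂ) * (ψ 1 * ((μ y : ℂˣ) : ℂ)) =
        ψ 1 * ((μ y * w y : ℂˣ) : ℂ)
      push_cast
      ring
    have h1 := C.inv hZY lam hlam hKn F.idx X' rfl hYX hψ1 hover ((hcjlam w t).2 htw)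
      ⟨k, hkX⟩ hk2
    -- `κ` is invariant
    have h2 : κ ⟨t * k * t⁻¹, hk2⟩ = κ ⟨k, hkX⟩ := by
      have ht' : t ∈ inertia Y (lf w) := (mem_inertia_iff_cj t w).2 htw
      have h3 : Subgroup.inclusion hX'T ⟨t * k * t⁻¹, hk2⟩ =
          (⟨t, ht'⟩ : inertia Y (lf w)) * Subgroup.inclusion hX'T ⟨k, hkX⟩ * ⟨t, ht'⟩⁻¹ := rfl
      change κ₀ _ = κ₀ _
      rw [h3, map_mul, map_mul, map_inv, mul_comm (κ₀ ⟨t, ht'⟩), mul_inv_cancel_right]
    have h3 : ((κ ⟨k, hkX⟩ : ℂˣ) : ℂ) * ψ (qX ⟨t * k * t⁻¹, hk2⟩) =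
        ((κ ⟨k, hkX⟩ : ℂˣ) : ℂ) * ψ (qX ⟨k, hkX⟩) := by
      rw [← h2]
      conv_rhs => rw [h2]
      exact h1
    exact mul_left_cancel₀ (Units.ne_zero _) h3

/-- The core situation does not occur for `r`-solvable groups. -/
def NoCoreS (p r : ℕ) : Prop :=
  ∀ {H V : Type u} [Group H] [Finite H] [AddCommGroup V] [Finite V] [DistribMulAction H V]
    (K N : Subgroup H) (φ : N →* ℂˣ), IsPSolvable r H → ¬ Core (V := V) p r K N φ

theorem noCoreS_of_noCore {p r : ℕ} (h : NoCore.{u} p r) : NoCoreS.{u} p r :=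
  fun K N φ _ => h K N φ

theorem Ctx.false (h : NoCoreS.{u} p q) (C : Ctx p q Z l) : False := by
  obtain ⟨U, X, K, F⟩ := C.exists_fin
  obtain ⟨H, V, i1, i2, i3, i4, i5, K', N, φ, hs, hC⟩ := core_of_fin F
  exact h K' N φ hs hC

end Cfsg.Agent.H37.NW
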