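import Mathlib
import Cfsg.Agent.H37.NW.CoreNW
import Cfsg.Agent.H37.NW.Cov
import Cfsg.Agent.CharactersDeep.ElemExt

/-!
# Navarro–Wolf: the theorem for invariant characters from the non-existence of the core situation
-/

set_option autoImplicit false
set_option linter.style.haveILetI false
set_option linter.unusedSectionVars false

open Cfsg

namespace Cfsg.Agent.H37.NW

open Cfsg.Agent.Characters.Core Cfsg.Agent.Characters.Clifford Cfsg.Agent.H672
open Cfsg.Agent.H672.RM (over_lin_iff)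
open Cfsg.Agent.H586.GW
open scoped commutatorElement

universe u

variable {p q : ℕ} [hp : Fact p.Prime] [hq : Fact q.Prime] {G : Type u} [Group G] [Finite G]
  {Z : Subgroup G} {l : Z →* ℂˣ}

/-- The `p`-part of the central character extends, general form. -/
theorem exists_nu (hcen : Z ≤ Subgroup.center G) {K : Subgroup G} (hZK : Z ≤ K)
    (hKi : K.index = p) (hpK : ¬ p ∣ Z.relIndex K) (l : Z →* ℂˣ) :
    ∃ ν : G →* ℂˣ, ∃ b : ℕ, ¬ p ∣ b ∧ ∀ z : Z, (l z * (ν z)⁻¹) ^ b = 1 := by
  classical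
  haveI := center_normal Z hcen
  obtain ⟨a, M, b, hab, hb, hM1, hM2⟩ := exists_exp (p := p) (Nat.card Z) Nat.card_pos.ne'
  obtain ⟨c, hc⟩ := hM2
  let lp : Z →* ℂˣ := (powMonoidHom M).comp l
  have hlp : ∀ z, lp z = l z ^ M := fun z => rfl
  have hlcard : ∀ z, l z ^ (p ^ a * b) = 1 := by
    intro z
    rw [← hab, ← map_pow, pow_card_eq_one', map_one]
  have hlpp : ∀ z, lp z ^ p ^ a = 1 := by
    intro z
    rw [hlp, hc, ← pow_mul, show b * c * p ^ a = (p ^ a * b) * c by ring, pow_mul, hlcard, one_pow]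
  obtain ⟨P⟩ : Nonempty (Sylow p G) := inferInstance
  let A : Subgroup G := Z ⊔ P
  have hZA : Z ≤ A := le_sup_left
  have hPA : (P : Subgroup G) ≤ A := le_sup_right
  -- the index
  have hidx : Z.relIndex A ∣ p := by
    have h1 : Z.relIndex A ∣ Z.index := Subgroup.relIndex_dvd_index_of_normal Z A
    have h2 : Z.relIndex K * K.index = Z.index := Subgroup.relIndex_mul_index hZK
    rw [← h2, hKi] at h1
    have h3 : Z.relIndex A ∣ Nat.card P := by
      change Z.relIndex (Z ⊔ P) ∣ _
      rw [sup_comm, Subgroup.relIndex_sup_right]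
      exact Subgroup.relIndex_dvd_card Z P
    obtain ⟨k, hk⟩ := IsPGroup.iff_card.1 P.isPGroup'
    rw [hk] at h3
    obtain ⟨j, -, hj⟩ := (Nat.dvd_prime_pow hp.out).1 h3
    rw [hj] at h1 ⊢
    have h4 : Nat.Coprime (p ^ j) (Z.relIndex K) :=
      Nat.Coprime.pow_left _ ((Nat.Prime.coprime_iff_not_dvd hp.out).2 hpK)
    exact h4.dvd_of_dvd_mul_left h1
  have hcomm : ∀ x y : A, x * y = y * x := by
    have hcyc : IsCyclic (A ⧸ Z.subgroupOf A) := by
      have h1 : Nat.card (A ⧸ Z.subgroupOf A) ∣ p := hidx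
      rcases (Nat.dvd_prime hp.out).1 h1 with h | h
      · haveI : Subsingleton (A ⧸ Z.subgroupOf A) := (Nat.card_eq_one_iff_unique.1 h).1
        infer_instance
      · exact isCyclic_of_prime_card h
    intro x y
    refine (MonoidHom.isMulCommutative_of_isCyclic_of_ker_le_center
      (QuotientGroup.mk' (Z.subgroupOf A)) ?_).is_comm.comm x y
    rw [QuotientGroup.ker_mk']
    intro z hz
    rw [Subgroup.mem_center_iff]
    intro g
    exact Subtype.ext (Subgroup.mem_center_iff.1 (hcen hz) (g : G))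
  obtain ⟨ν0, hν0⟩ := Cfsg.Agent.CharactersDeep.ElemExt.exists_ext_of_injective hcomm
    (Subgroup.inclusion hZA) (Subgroup.inclusion_injective hZA) lp
  obtain ⟨m, hm⟩ := lin_extends_to Z P A ⊤ hZA hPA le_top lp hlpp (by
    rw [inertia_central hcen]) ν0 (fun n => hν0 n)
  let ν : G →* ℂˣ := m.comp (Subgroup.topEquiv (G := G)).symm.toMonoidHom
  have hν : ∀ z : Z, ν z = l z ^ M := fun z => hm z
  refine ⟨ν, b, hb, fun z => ?_⟩
  rw [hν, mul_pow, inv_pow, mul_inv_eq_one, ← pow_mul]
  refine pow_eq_pow_iff_modEq.2 (Nat.ModEq.of_dvd (orderOf_dvd_of_pow_eq_one (hlcard z)) ?_)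
  have h1 := (Nat.ModEq.mul_right' b hM1).symm
  rwa [one_mul] at h1

/-- twisting the central character -/
theorem relP_twist (hcen : Z ≤ Subgroup.center G) (h : RelP p Z.subtype (lf l)) (ν : G →* ℂˣ)
    (l' : Z →* ℂˣ) (hl' : ∀ z : Z, l' z = l z * (ν z)⁻¹) : RelP p Z.subtype (lf l') := by
  intro χ hχ hov hd
  have h1 : IsIrrCharacter G (fun g => (ν g : ℂ) * χ g) := isIrr_mul_lf ν hχ
  refine h _ h1 ?_ ?_
  · rw [over_lin_iff Z.subtype (fun z => hcen z.2) h1]
    rw [over_lin_iff Z.subtype (fun z => hcen z.2) hχ] at hov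
    intro z
    have h2 := hov z
    change χ (z : G) = χ 1 * _ at h2
    change (ν (z : G) : ℂ) * χ (z : G) = (ν 1 : ℂ) * χ 1 * _
    rw [h2, hl', map_one]
    push_cast
    have h3 : ((ν (z : G) : ℂˣ) : ℂ) ≠ 0 := Units.ne_zero _
    field_simp
  · have h2 : charDegree (fun g => (ν g : ℂ) * χ g) = charDegree χ := by
      rw [Blocks.Basic.charDegree_def, Blocks.Basic.charDegree_def, map_one, Units.val_one, one_mul]
    rw [h2, charDegree_lf]
    rwa [charDegree_lf] at hd

theorem exists_ctx (C : Pre p q Z l) {b : ℕ} (hb : ¬ p ∣ b) (hl : ∀ z, l z ^ b = 1) :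
    ∃ (Q : Type u) (_ : Group Q) (_ : Finite Q) (Z' : Subgroup Q) (l' : Z' →* ℂˣ),
      Ctx p q Z' l' := by
  classical
  have hZ := C.cen
  haveI := C.zn
  let K : Subgroup G := l.ker.map Z.subtype
  have hKZ : K ≤ Z := by
    rintro _ ⟨z, -, rfl⟩
    exact z.2
  haveI hK : K.Normal := center_normal K (hKZ.trans hZ)
  let mk : G →* G ⧸ K := QuotientGroup.mk' K
  have hmk : Function.Surjective mk := QuotientGroup.mk'_surjective K
  have hkq : mk.ker = K := QuotientGroup.ker_mk' K
  let Z' : Subgroup (G ⧸ K) := Z.map mk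
  have hcomap : Z'.comap mk = Z := by
    rw [Subgroup.comap_map_eq, hkq, sup_eq_left.2 hKZ]
  have hZ' : Z' ≤ Subgroup.center (G ⧸ K) := by
    rintro _ ⟨z, hz, rfl⟩
    rw [Subgroup.mem_center_iff]
    intro x
    obtain ⟨x, rfl⟩ := hmk x
    rw [← map_mul, ← map_mul, Subgroup.mem_center_iff.1 (hZ hz) x]
  let f : Z →* Z' := (mk.comp Z.subtype).codRestrict Z' (fun z => ⟨z, z.2, rfl⟩)
  have hf : Function.Surjective f := by
    rintro ⟨_, z, hz, rfl⟩
    exact ⟨⟨z, hz⟩, rfl⟩
  have hkf : f.ker ≤ l.ker := by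
    intro z hz
    have h1 : mk (z : G) = 1 := congrArg Subtype.val (MonoidHom.mem_ker.1 hz)
    have h2 : (z : G) ∈ K := by rw [← hkq]; exact MonoidHom.mem_ker.2 h1
    obtain ⟨w, hw, hwz⟩ := h2
    have : w = z := Subtype.ext hwz
    rwa [← this]
  let l' : Z' →* ℂˣ := f.liftOfSurjective hf ⟨l, hkf⟩
  have hl' : ∀ z, l' (f z) = l z := fun z => MonoidHom.liftOfRightInverse_comp_apply _ _ _ _ _
  have hinj : Function.Injective l' := by
    rw [injective_iff_map_eq_one]
    intro z hz
    obtain ⟨z, rfl⟩ := hf z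
    rw [hl'] at hz
    apply Subtype.ext
    change mk (z : G) = 1
    rw [← MonoidHom.mem_ker, hkq]
    exact ⟨z, hz, rfl⟩
  have hidx : Z'.index = Z.index := Subgroup.index_map_eq Z hmk (by rw [hkq]; exact hKZ)
  refine ⟨G ⧸ K, inferInstance, inferInstance, Z', l', C.ne, hZ', hinj, ?_, ?_,
    Cfsg.Agent.Lib.PSolvable.IsPSolvable_of_surjective p C.ps mk hmk,
    Cfsg.Agent.Lib.PSolvable.IsPSolvable_of_surjective q C.qs mk hmk, ?_, ?_, ?_, ?_⟩
  · intro h
    exact C.qZ (h.trans (Subgroup.card_map_dvd Z mk))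
  · intro h
    obtain ⟨z, hz⟩ := exists_prime_orderOf_dvd_card' (G := Z') p h
    have h1 : z ^ p = 1 := orderOf_dvd_iff_pow_eq_one.1 (dvd_of_eq hz)
    have h2 : l' z ^ p = 1 := by rw [← map_pow, h1, map_one]
    have h3 : l' z ^ b = 1 := by
      obtain ⟨y, rfl⟩ := hf z
      rw [hl']
      exact hl y
    have h4 := pow_gcd_eq_one.2 ⟨h2, h3⟩
    rw [((Nat.Prime.coprime_iff_not_dvd hp.out).2 hb).gcd_eq_one, pow_one] at h4
    have h5 : z = 1 := hinj (by rw [h4, map_one])
    rw [h5, orderOf_one] at hz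
    exact hp.out.one_lt.ne hz
  · -- the core
    apply le_antisymm
    · have hE : (pPrimeCore q (G ⧸ K)).Normal := Cfsg.Agent.Lib.Cores.pPrimeCore_normal q
      have hEc : (Nat.card (pPrimeCore q (G ⧸ K))).Coprime q :=
        Cfsg.Agent.Lib.Cores.pPrimeCore_coprime (G := G ⧸ K) q
      have h1 : (pPrimeCore q (G ⧸ K)).comap mk ≤ pPrimeCore q G := by
        refine Cfsg.Agent.Lib.Cores.le_pPrimeCore (hE.comap mk) ?_
        have h2 : Nat.card ((pPrimeCore q (G ⧸ K)).comap mk) =
            Nat.card K * Nat.card (pPrimeCore q (G ⧸ K)) := by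
          have hKE : K ≤ (pPrimeCore q (G ⧸ K)).comap mk := by
            intro x hx
            show mk x ∈ pPrimeCore q (G ⧸ K)
            have : mk x = 1 := (QuotientGroup.eq_one_iff x).2 hx
            rw [this]
            exact one_mem _
          have h3 := Subgroup.relIndex_mul_relIndex ⊥ K _ bot_le hKE
          rw [Subgroup.relIndex_bot_left, Subgroup.relIndex_bot_left] at h3
          rw [← h3]
          congr 1
          have h4 : (⊥ : Subgroup (G ⧸ K)).comap mk = K := by
            rw [MonoidHom.comap_bot, hkq]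
          have h5 := Subgroup.relIndex_comap (⊥ : Subgroup (G ⧸ K)) mk
            ((pPrimeCore q (G ⧸ K)).comap mk)
          rw [h4, Subgroup.map_comap_eq_self_of_surjective hmk, Subgroup.relIndex_bot_left] at h5
          exact h5
        rw [h2]
        refine Nat.Coprime.mul_left ?_ hEc
        refine Nat.Coprime.coprime_dvd_left (Subgroup.card_dvd_of_le hKZ) ?_
        exact ((Nat.Prime.coprime_iff_not_dvd hq.out).2 C.qZ).symm
      rw [C.core] at h1
      rw [← Subgroup.map_comap_eq_self_of_surjective hmk (pPrimeCore q (G ⧸ K))]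
      exact Subgroup.map_mono h1
    · haveI : Z'.Normal := center_normal Z' hZ'
      refine Cfsg.Agent.Lib.Cores.le_pPrimeCore inferInstance ?_
      refine Nat.Coprime.coprime_dvd_left (Subgroup.card_map_dvd Z mk) ?_
      exact ((Nat.Prime.coprime_iff_not_dvd hq.out).2 C.qZ).symm
  · intro χ hχ hov hd
    have h1 : IsIrrCharacter G (χ ∘ mk) := isIrr_comp mk hmk hχ
    refine C.rel (χ ∘ mk) h1 ?_ ?_
    · rw [over_lin_iff Z.subtype (fun z => hZ z.2) h1]
      rw [over_lin_iff Z'.subtype (fun z => hZ' z.2) hχ] at hov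
      intro z
      have h2 := hov (f z)
      rw [hl'] at h2
      change χ (mk z) = χ (mk 1) * _
      rw [map_one]
      exact h2
    · rw [charDegree_comp_one, charDegree_lf]
      rwa [charDegree_lf] at hd
  · rw [hidx]; exact C.dvd
  · rw [hidx]; exact C.ih

theorem Pre.false (h : NoCoreS.{u} p q) (C : Pre p q Z l) : False := by
  obtain ⟨K, hKn, hZK, hKi, hpK⟩ := C.exists_K
  obtain ⟨ν, b, hb, hν⟩ := exists_nu C.cen hZK hKi hpK l
  let l' : Z →* ℂˣ := l * (ν.comp Z.subtype)⁻¹
  have hl' : ∀ z : Z, l' z = l z * (ν z)⁻¹ := fun _ => rfl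
  have C' : Pre p q Z l' := ⟨C.ne, C.cen, C.qZ, C.ps, C.qs, C.core,
    relP_twist C.cen C.rel ν l' hl', C.dvd, C.ih⟩
  obtain ⟨Q, i1, i2, Z', l'', C''⟩ := exists_ctx C' hb hν
  exact C''.false h

/-- the quotient of the covering group -/
theorem psolvable_transfer {r : ℕ} [Fact r.Prime] {Γ Δ Q : Type*} [Group Γ] [Group Δ] [Group Q]
    [Finite Γ] [Finite Q] {N : Subgroup Γ} [N.Normal] {Z : Subgroup Q} {π : Δ →* Γ} {m : Δ →* Q}
    (hπ : Function.Surjective π) (hm : Function.Surjective m) (hc : N.comap π = Z.comap m)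
    (hZc : Z ≤ Subgroup.center Q) (h : IsPSolvable r (Γ ⧸ N)) : IsPSolvable r Q := by
  haveI : Z.Normal := center_normal Z hZc
  apply psolvable_of_central Z hZc
  have hker : (N.comap π) = ((QuotientGroup.mk' Z).comp m).ker := by
    rw [← MonoidHom.comap_ker, QuotientGroup.ker_mk', hc]
  let g : Δ →* Γ ⧸ N := (QuotientGroup.mk' N).comp π
  have hg : Function.Surjective g := (QuotientGroup.mk'_surjective N).comp hπ
  have hgk : g.ker = N.comap π := by
    rw [← MonoidHom.comap_ker, QuotientGroup.ker_mk']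
  let F : (Γ ⧸ N) →* Q ⧸ Z :=
    g.liftOfSurjective hg ⟨(QuotientGroup.mk' Z).comp m, by rw [hgk, hker]⟩
  have hF : ∀ x, F (g x) = (QuotientGroup.mk' Z).comp m x :=
    fun x => MonoidHom.liftOfRightInverse_comp_apply _ _ _ _ _
  refine Cfsg.Agent.Lib.PSolvable.IsPSolvable_of_surjective r h F ?_
  intro y
  obtain ⟨y, rfl⟩ := QuotientGroup.mk'_surjective Z y
  obtain ⟨x, rfl⟩ := hm y
  exact ⟨g x, hF x⟩

theorem core_transfer {Γ Δ Q : Type*} [Group Γ] [Group Δ] [Group Q]
    [Finite Γ] [Finite Q] {N : Subgroup Γ} {Z : Subgroup Q} {π : Δ →* Γ} {m : Δ →* Q}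
    (hπ : Function.Surjective π) (hm : Function.Surjective m) (hc : N.comap π = Z.comap m)
    (hZc : Z ≤ Subgroup.center Q) (hN : pPrimeCore q Γ = N) (hqZ : ¬ q ∣ Nat.card Z) :
    pPrimeCore q Q = Z := by
  haveI : Z.Normal := center_normal Z hZc
  have hNn : N.Normal := by rw [← hN]; exact Cfsg.Agent.Lib.Cores.pPrimeCore_normal q
  have hNc : (Nat.card N).Coprime q := by
    rw [← hN]; exact Cfsg.Agent.Lib.Cores.pPrimeCore_coprime (G := Γ) q
  apply le_antisymm
  · have hE : (pPrimeCore q Q).Normal := Cfsg.Agent.Lib.Cores.pPrimeCore_normal q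
    have hEc : (Nat.card (pPrimeCore q Q)).Coprime q :=
      Cfsg.Agent.Lib.Cores.pPrimeCore_coprime (G := Q) q
    have hZE : Z ≤ pPrimeCore q Q := Cfsg.Agent.Lib.Cores.le_pPrimeCore inferInstance
      ((Nat.Prime.coprime_iff_not_dvd hq.out).2 hqZ).symm
    let E' : Subgroup Δ := (pPrimeCore q Q).comap m
    have hE'n : E'.Normal := hE.comap m
    have hNE' : N.comap π ≤ E' := by rw [hc]; exact Subgroup.comap_mono hZE
    let M : Subgroup Γ := E'.map π
    have hMn : M.Normal := hE'n.map π hπ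
    have hMc : M.comap π = E' := by
      rw [Subgroup.comap_map_eq, sup_eq_left.2]
      refine le_trans ?_ hNE'
      intro x hx
      show π x ∈ N
      rw [MonoidHom.mem_ker.1 hx]
      exact one_mem N
    have hNM : N ≤ M := by
      have h1 := Subgroup.map_mono (f := π) hNE'
      rwa [Subgroup.map_comap_eq_self_of_surjective hπ] at h1
    have h2 : N.relIndex M = Z.relIndex (pPrimeCore q Q) := by
      have h3 := Subgroup.relIndex_comap N π E'
      have h4 := Subgroup.relIndex_comap Z m E'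
      rw [Subgroup.map_comap_eq_self_of_surjective hm] at h4
      rw [← h4, ← hc]
      exact h3.symm
    have h3 : M ≤ pPrimeCore q Γ := by
      refine Cfsg.Agent.Lib.Cores.le_pPrimeCore hMn ?_
      have h4 := Subgroup.relIndex_mul_relIndex ⊥ N M bot_le hNM
      rw [Subgroup.relIndex_bot_left, Subgroup.relIndex_bot_left, h2] at h4
      rw [← h4]
      refine Nat.Coprime.mul_left hNc ?_
      exact Nat.Coprime.coprime_dvd_left (Subgroup.relIndex_dvd_card Z _) hEc
    rw [hN] at h3
    have h4 : E' ≤ Z.comap m := by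
      rw [← hMc, ← hc]
      exact Subgroup.comap_mono h3
    have h5 := Subgroup.map_mono (f := m) h4
    rwa [Subgroup.map_comap_eq_self_of_surjective hm,
      Subgroup.map_comap_eq_self_of_surjective hm] at h5
  · exact Cfsg.Agent.Lib.Cores.le_pPrimeCore inferInstance
      ((Nat.Prime.coprime_iff_not_dvd hq.out).2 hqZ).symm

/-- The theorem for invariant characters. -/
theorem t1_of_noCore (h : NoCoreS.{u} p q) (hpq : p ≠ q) (n : ℕ) : T1.{u} p q n := by
  induction n using Nat.strong_induction_on with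
  | _ n ih =>
    intro G _ _ N _ θ hθ hinv hps hqs hN hn hrel hdvd
    obtain ⟨Δ, Q, i1, i2, i3, π, m, Z, l, hπ, hm, hc, hZc, h1, h2⟩ :=
      exists_triple' (p := p) N hθ hinv
    have hqZ : ¬ q ∣ Nat.card Z := by
      intro hd
      have h3 := h2 q hq.out hd
      rw [← hN] at h3
      have h4 := Nat.dvd_gcd h3 (dvd_refl q)
      rw [(Cfsg.Agent.Lib.Cores.pPrimeCore_coprime (G := G) q : (Nat.card _).Coprime q)] at h4
      exact hq.out.one_lt.ne' (Nat.dvd_one.1 h4)
    have hidx : Z.index = n := by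
      rw [← hn, ← Subgroup.index_comap_of_surjective N hπ, hc,
        Subgroup.index_comap_of_surjective Z hm]
    have hps' : IsPSolvable p Q := psolvable_transfer hπ hm hc hZc
      (Cfsg.Agent.Lib.PSolvable.IsPSolvable_of_surjective p hps _ (QuotientGroup.mk'_surjective N))
    have hqs' : IsPSolvable q Q := psolvable_transfer hπ hm hc hZc
      (Cfsg.Agent.Lib.PSolvable.IsPSolvable_of_surjective q hqs _ (QuotientGroup.mk'_surjective N))
    exact Pre.false h ⟨hpq, hZc, hqZ, hps', hqs', core_transfer hπ hm hc hZc hN hqZ, h1 hrel,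
      by rw [hidx]; exact hdvd, by rw [hidx]; exact ih⟩

end Cfsg.Agent.H37.NW
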