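import Mathlib
import Cfsg.Agent.H397.GW.Num

/-!
# Noncoprime Wolf-type theorem, `r ≠ p`: the semilinear numerical reduction [R2]
-/

set_option autoImplicit false
set_option exponentiation.threshold 2000

namespace Cfsg.Agent.H37.NW

/-- the semilinear inequality, cleaned, for all `a ≥ 2`. -/
theorem coreTwo {a p N C : ℕ} (ha : 2 ≤ a) (hp : 1 ≤ p) (hN : 1 ≤ N)
    (h : ((a ^ p) ^ N - 1) * (a - 1) ≤ C * (a ^ N - 1) * (a ^ p - 1)) :
    a ^ ((p - 1) * (N - 1)) ≤ 2 * C := by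
  obtain ⟨p, rfl⟩ : ∃ p', p = p' + 1 := ⟨p - 1, by omega⟩
  obtain ⟨N, rfl⟩ : ∃ N', N = N' + 1 := ⟨N - 1, by omega⟩
  simp only [Nat.add_sub_cancel]
  have haN : a ≤ a ^ (N + 1) := Nat.le_self_pow (by omega) a
  have h1 : a ^ (p * (N + 1)) * (a ^ (N + 1) - 1) ≤ (a ^ (p + 1)) ^ (N + 1) - 1 := by
    have h2 : (a ^ (p + 1)) ^ (N + 1) = a ^ (p * (N + 1)) * a ^ (N + 1) := by
      rw [← pow_mul, ← pow_add]; congr 1; ring
    have h3 : 1 ≤ a ^ (p * (N + 1)) := Nat.one_le_pow _ _ (by omega)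
    rw [h2, Nat.mul_sub, mul_one]
    omega
  have h4 : a ^ (p * (N + 1)) * (a - 1) ≤ C * (a ^ (p + 1) - 1) := by
    refine Nat.le_of_mul_le_mul_left (c := a ^ (N + 1) - 1) ?_ (by omega)
    calc (a ^ (N + 1) - 1) * (a ^ (p * (N + 1)) * (a - 1))
        = a ^ (p * (N + 1)) * (a ^ (N + 1) - 1) * (a - 1) := by ring
      _ ≤ ((a ^ (p + 1)) ^ (N + 1) - 1) * (a - 1) := Nat.mul_le_mul_right _ h1
      _ ≤ C * (a ^ (N + 1) - 1) * (a ^ (p + 1) - 1) := h
      _ = (a ^ (N + 1) - 1) * (C * (a ^ (p + 1) - 1)) := by ring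
  have h5 : C * (a ^ (p + 1) - 1) ≤ C * a ^ (p + 1) := Nat.mul_le_mul_left _ (Nat.sub_le _ _)
  have h6 : a ≤ 2 * (a - 1) := by omega
  have h7 : a ^ (p * (N + 1)) * a ≤ 2 * (C * a ^ (p + 1)) := by
    calc a ^ (p * (N + 1)) * a ≤ a ^ (p * (N + 1)) * (2 * (a - 1)) :=
          Nat.mul_le_mul_left _ h6
      _ = 2 * (a ^ (p * (N + 1)) * (a - 1)) := by ring
      _ ≤ 2 * (C * a ^ (p + 1)) := Nat.mul_le_mul_left _ (h4.trans h5)
  have h8 : 0 < a ^ (p + 1) := Nat.pow_pos (by omega)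
  refine Nat.le_of_mul_le_mul_left (c := a ^ (p + 1)) ?_ h8
  calc a ^ (p + 1) * a ^ (p * N) = a ^ (p * (N + 1)) * a := by
        rw [show p * (N + 1) = p * N + p by ring, pow_add, pow_succ]; ring
    _ ≤ 2 * (C * a ^ (p + 1)) := h7
    _ = a ^ (p + 1) * (2 * C) := by ring

/-- kill a case by comparing exponents. -/
theorem kill {s u b m F : ℕ} (hs : 2 ≤ s) (h : b ^ m ≤ 2 * s ^ F) (hb : s ^ u < b)
    (hlin : F + 1 ≤ u * m) : False := by
  have hm : m ≠ 0 := by
    rintro rfl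
    omega
  have h1 : 2 * s ^ F < b ^ m := by
    calc 2 * s ^ F ≤ s * s ^ F := Nat.mul_le_mul_right _ hs
      _ = s ^ (F + 1) := by rw [pow_succ']
      _ ≤ s ^ (u * m) := Nat.pow_le_pow_right (by omega) hlin
      _ = (s ^ u) ^ m := by rw [pow_mul]
      _ < b ^ m := Nat.pow_lt_pow_left hb hm
  omega

/-- exponential beats quadratic. -/
theorem lin_gen {t c n₀ : ℕ} (ht : 2 ≤ t) (hc : 5 ≤ c * (t - 1))
    (h0 : 2 * n₀ ^ 2 + 3 * n₀ + 1 ≤ c * (t ^ n₀ - 1)) {n : ℕ} (hn : n₀ ≤ n) :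
    2 * n ^ 2 + 3 * n + 1 ≤ c * (t ^ n - 1) := by
  induction n, hn using Nat.le_induction with
  | base => exact h0
  | succ n hn ih =>
    have h1 : t ^ (n + 1) - 1 = (t ^ n - 1) + (t - 1) * t ^ n := by
      have : 1 ≤ t ^ n := Nat.one_le_pow _ _ (by omega)
      obtain ⟨u, rfl⟩ : ∃ u, t = u + 1 := ⟨t - 1, by omega⟩
      rw [Nat.add_sub_cancel, pow_succ (u + 1) n, mul_add, mul_one, mul_comm ((u + 1) ^ n) u]
      omega
    have h2 : n < t ^ n := Nat.lt_pow_self (by omega)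
    have h3 : 5 * t ^ n ≤ c * (t - 1) * t ^ n := Nat.mul_le_mul_right _ hc
    have h4 : 2 * (n + 1) ^ 2 + 3 * (n + 1) + 1 = (2 * n ^ 2 + 3 * n + 1) + (4 * n + 5) := by ring
    have h5 : c * (t ^ (n + 1) - 1) = c * (t ^ n - 1) + c * (t - 1) * t ^ n := by
      rw [h1]; ring
    rw [h4, h5]
    omega

theorem four_pow (s : ℕ) (hs : 11 ≤ s) : 2 * s ^ 5 < 4 ^ (s - 1) ∧ s ^ 5 ≤ 4 ^ (s - 1) := by
  induction s, hs using Nat.le_induction with
  | base => norm_num
  | succ s hs ih =>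
    have h1 : 4 ^ (s + 1 - 1) = 4 * 4 ^ (s - 1) := by
      rw [← pow_succ']; congr 1; omega
    rw [h1]
    have h2 : (s + 1) ^ 5 ≤ 4 * s ^ 5 := by
      obtain ⟨t, rfl⟩ : ∃ t, s = t + 11 := ⟨s - 11, by omega⟩
      have h3 : 4 * (t + 11) ^ 5 = (t + 11 + 1) ^ 5 + (3 * t ^ 5 + 160 * t ^ 4 + 3400 * t ^ 3
        + 35960 * t ^ 2 + 189140 * t + 395372) := by ring
      rw [h3]
      exact Nat.le_add_right _ _
    exact ⟨by omega, by omega⟩

theorem four_pow' (s : ℕ) (hs : 11 ≤ s) (n : ℕ) (hn : 1 ≤ n) :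
    2 * s ^ (2 * n ^ 2 + 3 * n) < 4 ^ (s ^ n - 1) := by
  induction n, hn using Nat.le_induction with
  | base => simpa using (four_pow s hs).1
  | succ n hn ih =>
    have h1 : s ^ (n + 1) - 1 = (s ^ n - 1) + (s - 1) * s ^ n := by
      have : 1 ≤ s ^ n := Nat.one_le_pow _ _ (by omega)
      obtain ⟨t, rfl⟩ : ∃ t, s = t + 1 := ⟨s - 1, by omega⟩
      rw [Nat.add_sub_cancel, pow_succ (t + 1) n, mul_add, mul_one, mul_comm ((t + 1) ^ n) t]
      omega
    have h2 : s ^ (4 * n + 5) ≤ 4 ^ ((s - 1) * s ^ n) := by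
      have h3 : 4 * n + 5 ≤ 5 * s ^ n := by
        have h4 : n < s ^ n := Nat.lt_pow_self (by omega)
        omega
      calc s ^ (4 * n + 5) ≤ s ^ (5 * s ^ n) := Nat.pow_le_pow_right (by omega) h3
        _ = (s ^ 5) ^ (s ^ n) := by rw [pow_mul]
        _ ≤ (4 ^ (s - 1)) ^ (s ^ n) := Nat.pow_le_pow_left (four_pow s hs).2 _
        _ = _ := by rw [← pow_mul]
    rw [h1, pow_add (4 : ℕ),
      show 2 * (n + 1) ^ 2 + 3 * (n + 1) = (2 * n ^ 2 + 3 * n) + (4 * n + 5) by ring, pow_add s]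
    calc 2 * (s ^ (2 * n ^ 2 + 3 * n) * s ^ (4 * n + 5))
        = (2 * s ^ (2 * n ^ 2 + 3 * n)) * s ^ (4 * n + 5) := by ring
      _ < 4 ^ (s ^ n - 1) * 4 ^ ((s - 1) * s ^ n) :=
          Nat.mul_lt_mul_of_lt_of_le ih h2 (Nat.pow_pos (by norm_num))

theorem one_mod {p s a : ℕ} (hp : p.Prime) (hs : s.Prime) (hpc : Nat.Coprime p (s - 1))
    (ha : 2 ≤ a) (h : s ∣ a ^ p - 1) : s + 1 ≤ a := by
  haveI : Fact s.Prime := ⟨hs⟩
  have h1 : 1 ≤ a ^ p := Nat.one_le_pow _ _ (by omega)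
  have hx : (a : ZMod s) ^ p = 1 := by
    have h2 : ((a ^ p - 1 : ℕ) : ZMod s) = 0 := (ZMod.natCast_eq_zero_iff _ _).2 h
    rw [Nat.cast_sub h1, Nat.cast_pow, Nat.cast_one, sub_eq_zero] at h2
    exact h2
  have hx0 : (a : ZMod s) ≠ 0 := by
    intro h0
    rw [h0, zero_pow hp.ne_zero] at hx
    exact zero_ne_one hx
  have hx1 : (a : ZMod s) ^ (s - 1) = 1 := ZMod.pow_card_sub_one_eq_one hx0
  have hx2 : (a : ZMod s) ^ (Nat.gcd p (s - 1)) = 1 := pow_gcd_eq_one.2 ⟨hx, hx1⟩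
  rw [Nat.Coprime] at hpc
  rw [hpc, pow_one] at hx2
  have h3 : s ∣ a - 1 := by
    rw [← ZMod.natCast_eq_zero_iff, Nat.cast_sub (by omega), hx2, Nat.cast_one, sub_self]
  have := Nat.le_of_dvd (by omega) h3
  omega

theorem prime_odd_ge {p : ℕ} (hp : p.Prime) (hp2 : p ≠ 2) : 3 ≤ p := by
  have := hp.two_le
  omega

/-- [R2] -/
theorem num_r' {p s n r f₀ M : ℕ} (hp : p.Prime) (hs : s.Prime) (hr : r.Prime) (hps : p ≠ s)
    (hrp : r ≠ p) (hp2 : p ≠ 2) (hn : 1 ≤ n) (hf : 1 ≤ f₀) (hsq : s ∣ r ^ (p * f₀) - 1)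
    (hM : M ≤ s ^ (n ^ 2) * ∏ i ∈ Finset.range n, (s ^ (2 * (i + 1)) - 1))
    (hI : ((r ^ (p * f₀)) ^ (s ^ n) - 1) * (r ^ f₀ - 1) ≤
      s ^ (2 * n) * M * ((r ^ f₀) ^ (s ^ n) - 1) * (r ^ (p * f₀) - 1)) :
    (s = 2 ∧ p = 3 ∧ n = 1) ∨ (s = 7 ∧ p = 3 ∧ n = 1 ∧ r = 2 ∧ f₀ = 1) := by
  have hp3 := prime_odd_ge hp hp2
  have hs1 := hs.two_le
  have hr1 := hr.two_le
  have hra : r ≤ r ^ f₀ := Nat.le_self_pow (by omega) r
  have hff' : r ^ (p * f₀) = (r ^ f₀) ^ p := by rw [← pow_mul, mul_comm]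
  rw [hff'] at hI hsq
  have ha2 : r ^ f₀ = 2 → r = 2 ∧ f₀ = 1 := by
    intro h
    obtain rfl : r = 2 := by omega
    refine ⟨rfl, ?_⟩
    by_contra hf1
    have : 2 ^ 2 ≤ 2 ^ f₀ := Nat.pow_le_pow_right (by norm_num) (by omega)
    omega
  have ha3 : p = 3 → s = 2 → 5 ≤ r ^ f₀ := by
    rintro rfl rfl
    have hr2 : r ≠ 2 := by
      rintro rfl
      have h1 : 2 ∣ (2 ^ f₀) ^ 3 := dvd_pow (dvd_pow_self 2 (by omega)) (by norm_num)
      have h2 : 1 ≤ (2 ^ f₀) ^ 3 := Nat.one_le_pow _ _ (Nat.pow_pos (by norm_num))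
      omega
    have h5 : r ≠ 4 := fun h => by rw [h] at hr; revert hr; norm_num
    omega
  have h3 : ¬ s ∣ r ^ f₀ := by
    intro h
    have h1 : s ∣ (r ^ f₀) ^ p := dvd_pow h hp.ne_zero
    have h2 : 1 ≤ (r ^ f₀) ^ p := Nat.one_le_pow _ _ (by omega)
    have h4 : s ∣ 1 := by
      have := (Nat.dvd_sub h1 hsq)
      rwa [Nat.sub_sub_self h2] at this
    exact hs.one_lt.ne' (Nat.dvd_one.1 h4)
  generalize r ^ f₀ = a at *
  have ha : 2 ≤ a := by omega
  have h1 := coreTwo ha (by omega) (Nat.one_le_pow _ _ (by omega)) hI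
  have h2 : s ^ (2 * n) * M ≤ s ^ (2 * n ^ 2 + 3 * n) := by
    calc s ^ (2 * n) * M ≤ s ^ (2 * n) * s ^ (2 * n ^ 2 + n) :=
          Nat.mul_le_mul_left _ (hM.trans (H397.GW.prod_le s n))
      _ = _ := by rw [← pow_add]; congr 1; ring
  have h4 : a ^ ((p - 1) * (s ^ n - 1)) ≤ 2 * s ^ (2 * n ^ 2 + 3 * n) :=
    h1.trans (Nat.mul_le_mul_left _ h2)
  have hb : ∀ b c : ℕ, b ≤ c ^ (p - 1) → c ≤ a →
      b ^ (s ^ n - 1) ≤ 2 * s ^ (2 * n ^ 2 + 3 * n) := by
    intro b c hbc hca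
    refine le_trans ?_ h4
    rw [pow_mul]
    exact Nat.pow_le_pow_left (hbc.trans (Nat.pow_le_pow_left hca _)) _
  have h35 : p = 3 ∨ 5 ≤ p := by
    rcases Nat.lt_or_ge p 5 with h | h
    · left
      interval_cases p
      · rfl
      · exfalso; revert hp; norm_num
    · exact Or.inr h
  have hp1 : ∀ c : ℕ, 1 ≤ c → 5 ≤ p → c ^ 4 ≤ c ^ (p - 1) := fun c hc h5 =>
    Nat.pow_le_pow_right hc (by omega)
  have hp1' : ∀ c : ℕ, 1 ≤ c → c ^ 2 ≤ c ^ (p - 1) := fun c hc =>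
    Nat.pow_le_pow_right hc (by omega)
  rcases Nat.lt_or_ge s 11 with hs11 | hs11
  swap
  · exfalso
    have := hb 4 2 (hp1' 2 (by norm_num)) ha
    have h5 := four_pow' s hs11 n hn
    omega
  have : s = 2 ∨ s = 3 ∨ s = 5 ∨ s = 7 := by
    interval_cases s <;> first | omega | (exfalso; revert hs; norm_num)
  rcases this with rfl | rfl | rfl | rfl
  · -- `s = 2`
    rcases h35 with rfl | h5
    · left
      refine ⟨rfl, rfl, ?_⟩
      by_contra hn1
      have ha5 := ha3 rfl rfl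
      rcases Nat.lt_or_ge n 3 with hn3 | hn3
      · obtain rfl : n = 2 := by omega
        have hM' : M ≤ 720 := by
          refine hM.trans ?_
          simp [Finset.prod_range_succ]
        have h5 : a ^ 6 ≤ 2 * (2 ^ (2 * 2) * 720) := by
          refine le_trans ?_ (h1.trans (Nat.mul_le_mul_left _ (Nat.mul_le_mul_left _ hM')))
          norm_num
        have h6 : a < 6 := by
          by_contra h6
          have : 6 ^ 6 ≤ a ^ 6 := Nat.pow_le_pow_left (by omega) 6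
          revert h5
          norm_num
          omega
        obtain rfl : a = 5 := by omega
        have h7 : 2 ^ (2 * 2) * M * (5 ^ 2 ^ 2 - 1) * (5 ^ 3 - 1) ≤
            2 ^ (2 * 2) * 720 * (5 ^ 2 ^ 2 - 1) * (5 ^ 3 - 1) :=
          Nat.mul_le_mul_right _ (Nat.mul_le_mul_right _ (Nat.mul_le_mul_left _ hM'))
        have h8 := hI.trans h7
        revert h8
        norm_num
      · have h6 := hb 25 5 (hp1' 5 (by norm_num)) ha5
        refine kill (u := 4) (by norm_num) h6 (by norm_num) ?_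
        clear h6 hb h4 h2 h1 hI hM
        induction n, hn3 using Nat.le_induction with
        | base => norm_num
        | succ n hn3 ih =>
          have ih := ih (by omega) (by omega)
          have h7 : n < 2 ^ n := Nat.lt_pow_self (by norm_num)
          have h8 : n + 1 < 2 ^ n := by
            obtain ⟨m, rfl⟩ : ∃ m, n = m + 1 := ⟨n - 1, by omega⟩
            have : m < 2 ^ m := Nat.lt_pow_self (by norm_num)
            rw [pow_succ]
            omega
          have h9 : 2 ^ (n + 1) = 2 * 2 ^ n := by rw [pow_succ']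
          rw [h9]
          have h10 : 2 * (n + 1) ^ 2 + 3 * (n + 1) + 1
            = (2 * n ^ 2 + 3 * n + 1) + (4 * n + 5) := by ring
          rw [h10]
          omega
    · exfalso
      have ha3' : 3 ≤ a := by
        by_contra h
        obtain rfl : a = 2 := by omega
        exact h3 (dvd_refl 2)
      have h6 := hb 81 3 (hp1 3 (by norm_num) h5) ha3'
      exact kill (u := 6) (by norm_num) h6 (by norm_num)
        (lin_gen (t := 2) (c := 6) (n₀ := 1) (by norm_num) (by norm_num) (by norm_num) hn)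
  · -- `s = 3`
    exfalso
    have h5 : 5 ≤ p := by
      rcases h35 with h | h
      · exact (hps h).elim
      · exact h
    have ha4 : 3 + 1 ≤ a := one_mod hp hs
      ((Nat.coprime_primes hp Nat.prime_two).2 hp2) ha hsq
    have h6 := hb 256 4 (hp1 4 (by norm_num) h5) ha4
    exact kill (u := 5) (by norm_num) h6 (by norm_num)
      (lin_gen (t := 3) (c := 5) (n₀ := 1) (by norm_num) (by norm_num) (by norm_num) hn)
  · -- `s = 5`
    exfalso
    have ha4 : 5 + 1 ≤ a := one_mod hp hs (by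
      have h7 : Nat.Coprime p (2 ^ 2) :=
        Nat.Coprime.pow_right 2 ((Nat.coprime_primes hp Nat.prime_two).2 hp2)
      simpa using h7) ha hsq
    have h6 := hb 36 6 (hp1' 6 (by norm_num)) ha4
    exact kill (u := 2) (by norm_num) h6 (by norm_num)
      (lin_gen (t := 5) (c := 2) (n₀ := 1) (by norm_num) (by norm_num) (by norm_num) hn)
  · -- `s = 7`
    rcases h35 with rfl | h5
    · rcases Nat.lt_or_ge a 4 with ha4 | ha4
      · interval_cases a
        · obtain ⟨rfl, rfl⟩ := ha2 rfl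
          right
          refine ⟨rfl, rfl, ?_, rfl, rfl⟩
          by_contra hn1
          have h6 : 2 ^ ((3 - 1) * (7 ^ n - 1)) = 4 ^ (7 ^ n - 1) := by
            rw [pow_mul]; norm_num
          rw [h6] at h4
          have hodd : 7 ^ n - 1 = 2 * ((7 ^ n - 1) / 2) := by
            have h8 : 2 ∣ 7 ^ n - 1 := by
              have : (7 - 1) ∣ 7 ^ n - 1 := by simpa using Nat.sub_dvd_pow_sub_pow 7 1 n
              exact (by norm_num : 2 ∣ 7 - 1).trans this
            omega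
          have h7 : 4 ^ (7 ^ n - 1) = 16 ^ ((7 ^ n - 1) / 2) := by
            conv_lhs => rw [hodd]
            rw [pow_mul]
            norm_num
          rw [h7] at h4
          refine kill (u := 1) (by norm_num) h4 (by norm_num) ?_
          have h9 : 2 * n ^ 2 + 3 * n + 1 ≤ 1 * (7 ^ n - 1) :=
            lin_gen (t := 7) (c := 1) (n₀ := 1) (by norm_num) (by norm_num) (by norm_num) hn
          have h10 : 2 * (2 * n ^ 2 + 3 * n + 1) ≤ 1 * (7 ^ n - 1) := by
            have hn2 : 2 ≤ n := by omega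
            clear h9 h7 hodd h6 h4 h2 h1 hb hI hM
            induction n, hn2 using Nat.le_induction with
            | base => norm_num
            | succ n hn2 ih =>
              have ih := ih (by omega) (by omega)
              have h7 : n < 7 ^ n := Nat.lt_pow_self (by norm_num)
              have h9 : 7 ^ (n + 1) = 7 * 7 ^ n := by rw [pow_succ']
              rw [h9]
              have h10 : 2 * (2 * (n + 1) ^ 2 + 3 * (n + 1) + 1)
                = 2 * (2 * n ^ 2 + 3 * n + 1) + (8 * n + 10) := by ring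
              rw [h10]
              omega
          omega
        · exfalso
          revert hsq
          norm_num
      · exfalso
        have h6 := hb 16 4 (hp1' 4 (by norm_num)) ha4
        exact kill (u := 1) (by norm_num) h6 (by norm_num)
          (lin_gen (t := 7) (c := 1) (n₀ := 1) (by norm_num) (by norm_num) (by norm_num) hn)
    · exfalso
      have h6 := hb 16 2 (hp1 2 (by norm_num) h5) ha
      exact kill (u := 1) (by norm_num) h6 (by norm_num)
        (lin_gen (t := 7) (c := 1) (n₀ := 1) (by norm_num) (by norm_num) (by norm_num) hn)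

end Cfsg.Agent.H37.NW
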