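import Mathlib
import Cfsg.Agent.H662.GW.Defs
import Cfsg.Agent.PLocal.Constrained
import Cfsg.Agent.Lib.PSolvable
import Cfsg.Prelude.Def_Local
import Cfsg.Prelude.Def_Exceptional

/-!
# Navarro–Wolf: solvability of the acting group and the bound by three vectors
-/

set_option autoImplicit false
set_option linter.style.haveILetI false
set_option linter.unusedSectionVars false

open Cfsg

namespace Cfsg.Agent.H37.NW

open Cfsg.Agent.H662.GW

universe u

/-- `S0336`. -/
def F336 : Prop := ∀ (G : Type u) [Group G] [Finite G] [IsSimpleGroup G],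
  (∃ a b : G, a * b ≠ b * a) → ¬ 3 ∣ Nat.card G → Cfsg.IsSuzuki G

/-- `S4374`. -/
def F4374 : Prop := ∀ (A V : Type u) [Group A] [Finite A] [AddCommGroup V] [Finite V]
  [DistribMulAction A V] [FaithfulSMul A V], Group.IsSolvable A →
  (∀ U : AddSubgroup V, (∀ a : A, ∀ v ∈ U, a • v ∈ U) →
    ∃ W : AddSubgroup V, (∀ a : A, ∀ w ∈ W, a • w ∈ W) ∧ U ⊓ W = ⊥ ∧ U ⊔ W = ⊤) →
  ∃ v₁ v₂ v₃ : V, ∀ a : A, a • v₁ = v₁ → a • v₂ = v₂ → a • v₃ = v₃ → a = 1

/-- the order of the Suzuki group over the field with `2 ^ (2 m + 1)` elements -/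
def sz (m : ℕ) : ℕ := (2 ^ (2 * m + 1)) ^ 2 * ((2 ^ (2 * m + 1)) ^ 2 + 1) * (2 ^ (2 * m + 1) - 1)

theorem solvable_ext {G : Type u} [Group G] {N : Subgroup G} [N.Normal]
    (h1 : Group.IsSolvable N) (h2 : Group.IsSolvable (G ⧸ N)) : Group.IsSolvable G :=
  Group.isSolvable_of_ker_le_range N.subtype (QuotientGroup.mk' N)
    (by rw [QuotientGroup.ker_mk', Subgroup.range_subtype])

theorem card_lt_of {G : Type u} [Group G] [Finite G] {N : Subgroup G}
    (hNb : N ≠ ⊥) (hNt : N ≠ ⊤) : Nat.card N < Nat.card G ∧ Nat.card (G ⧸ N) < Nat.card G := by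
  have hmul : Nat.card G = Nat.card (G ⧸ N) * Nat.card N :=
    Subgroup.card_eq_card_quotient_mul_card_subgroup N
  have hc1 : Nat.card N ≠ 1 := fun h => hNb (Subgroup.card_eq_one.1 h)
  have hc2 : Nat.card (G ⧸ N) ≠ 1 := fun h => hNt (Subgroup.index_eq_one.1 h)
  have hp1 : 0 < Nat.card N := Nat.card_pos
  have hp2 : 0 < Nat.card (G ⧸ N) := Nat.card_pos
  constructor
  · rw [hmul]
    nlinarith [Nat.lt_of_le_of_ne hp2 (Ne.symm hc2)]
  · rw [hmul]
    nlinarith [Nat.lt_of_le_of_ne hp1 (Ne.symm hc1)]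

theorem solvable_of_three' (F : F336.{u}) (n : ℕ) : ∀ (G : Type u) [Group G] [Finite G],
    Nat.card G = n → ¬ 3 ∣ Nat.card G → (∀ m, 1 ≤ m → ¬ sz m ∣ Nat.card G) →
    Group.IsSolvable G := by
  induction n using Nat.strong_induction_on with
  | _ n ih =>
    intro G _ _ hn h3 hS
    classical
    by_cases hcomm : ∀ a b : G, a * b = b * a
    · exact Group.isSolvable_of_comm hcomm
    push Not at hcomm
    by_cases hsimp : IsSimpleGroup G
    · obtain ⟨-, m, hm, hcard⟩ := F G hcomm h3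
      exact absurd (dvd_of_eq hcard.symm) (hS m hm)
    · haveI : Nontrivial G := by
        obtain ⟨a, b, hab⟩ := hcomm
        exact ⟨⟨a * b, b * a, hab⟩⟩
      have h1 : ∃ N : Subgroup G, N.Normal ∧ N ≠ ⊥ ∧ N ≠ ⊤ := by
        by_contra hcon
        push Not at hcon
        apply hsimp
        exact ⟨fun N hN => by
          by_cases h : N = ⊥
          · exact Or.inl h
          · exact Or.inr (hcon N hN h)⟩
      obtain ⟨N, hN, hNb, hNt⟩ := h1
      haveI := hN
      have hd : Nat.card N ∣ Nat.card G := Subgroup.card_subgroup_dvd_card N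
      have hd2 : Nat.card (G ⧸ N) ∣ Nat.card G := Subgroup.card_quotient_dvd_card N
      obtain ⟨hl1, hl2⟩ := card_lt_of hNb hNt
      rw [hn] at hl1 hl2
      exact solvable_ext (ih _ hl1 N rfl (fun h => h3 (h.trans hd))
        (fun m hm h => hS m hm (h.trans hd))) (ih _ hl2 (G ⧸ N) rfl (fun h => h3 (h.trans hd2))
        (fun m hm h => hS m hm (h.trans hd2)))

theorem solvable_of_three (F : F336.{u}) (n : ℕ) : ∀ (G : Type u) [Group G] [Finite G],
    Nat.card G = n → IsPSolvable 3 G → (∀ m, 1 ≤ m → ¬ sz m ∣ Nat.card G) →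
    Group.IsSolvable G := by
  induction n using Nat.strong_induction_on with
  | _ n ih =>
    intro G _ _ hn h3 hS
    classical
    haveI : Fact (Nat.Prime 3) := ⟨Nat.prime_three⟩
    rcases subsingleton_or_nontrivial G with hs | hs
    · exact Group.isSolvable_of_comm fun a b => Subsingleton.elim _ _
    have key : ∀ N : Subgroup G, N.Normal → N ≠ ⊥ → Group.IsSolvable N → Group.IsSolvable G := by
      intro N hN hNb hNs
      haveI := hN
      refine solvable_ext hNs ?_
      by_cases hNt : N = ⊤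
      · have h1 : Subsingleton (G ⧸ N) := by
          rw [hNt]
          exact QuotientGroup.subsingleton_quotient_top
        exact Group.isSolvable_of_comm fun a b => Subsingleton.elim _ _
      · have hd2 : Nat.card (G ⧸ N) ∣ Nat.card G := Subgroup.card_quotient_dvd_card N
        obtain ⟨hl1, hl2⟩ := card_lt_of hNb hNt
        rw [hn] at hl2
        exact ih _ hl2 (G ⧸ N) rfl (Cfsg.Agent.Lib.PSolvable.IsPSolvable_of_surjective 3 h3
          (QuotientGroup.mk' N) (QuotientGroup.mk'_surjective N))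
          (fun m hm h => hS m hm (h.trans hd2))
    rcases Cfsg.Agent.PLocal.Constrained.pCore_or_pPrimeCore_ne_bot h3 with h | h
    · refine key _ (Cfsg.Agent.Lib.Cores.pCore_normal 3) h ?_
      haveI : Group.IsNilpotent (pCore 3 G) := (Cfsg.Agent.Lib.Cores.pCore_isPGroup 3).isNilpotent
      infer_instance
    · refine key _ (Cfsg.Agent.Lib.Cores.pPrimeCore_normal 3) h ?_
      have hd : Nat.card (pPrimeCore 3 G) ∣ Nat.card G := Subgroup.card_subgroup_dvd_card _
      refine solvable_of_three' F _ _ rfl ?_ (fun m hm h => hS m hm (h.trans hd))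
      intro h4
      have h5 := Nat.dvd_gcd h4 (dvd_refl 3)
      rw [(Cfsg.Agent.Lib.Cores.pPrimeCore_coprime (G := G) 3 : (Nat.card _).Coprime 3)] at h5
      omega

theorem five_dvd_sz (m : ℕ) : 5 ∣ sz m := by
  unfold sz
  refine dvd_mul_of_dvd_left (dvd_mul_of_dvd_right ?_ _) _
  have h1 : ((2 ^ (2 * m + 1)) ^ 2 + 1) % 5 = 0 := by
    rw [← pow_mul, show (2 * m + 1) * 2 = 4 * m + 2 by ring, pow_add, pow_mul]
    norm_num [Nat.add_mod, Nat.mul_mod, Nat.pow_mod]
  exact Nat.dvd_of_mod_eq_zero h1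

theorem two_pow_dvd {a b c : ℕ} (hc : ¬ 2 ∣ c) (h : 2 ^ a ∣ 2 ^ b * c) : a ≤ b := by
  have h1 : Nat.Coprime (2 ^ a) c :=
    Nat.Coprime.pow_left _ ((Nat.Prime.coprime_iff_not_dvd Nat.prime_two).2 hc)
  exact (Nat.pow_dvd_pow_iff_le_right (by norm_num)).1 (h1.dvd_of_dvd_mul_right h)

theorem sz_dvd_six {m : ℕ} (hm : 1 ≤ m)
    (h : sz m ∣ 2 ^ (6 ^ 2) * ∏ i ∈ Finset.range 6, (2 ^ (2 * (i + 1)) - 1)) : m = 1 := by
  have h1 : 2 ^ (4 * m + 2) ∣ 2 ^ (6 ^ 2) * ∏ i ∈ Finset.range 6, (2 ^ (2 * (i + 1)) - 1) := by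
    refine dvd_trans ?_ h
    unfold sz
    rw [← pow_mul, show (2 * m + 1) * 2 = 4 * m + 2 by ring]
    exact dvd_mul_of_dvd_left (dvd_mul_right _ _) _
  have h2 := two_pow_dvd (by simp [Finset.prod_range_succ]) h1
  have h3 : m ≤ 8 := by omega
  simp only [Finset.prod_range_succ, Finset.prod_range_zero] at h
  interval_cases m
  · rfl
  all_goals (exfalso; revert h; unfold sz; norm_num)

theorem sz_not_dvd_five {m : ℕ} (hm : 1 ≤ m)
    (h : sz m ∣ 2 ^ (5 ^ 2) * ∏ i ∈ Finset.range 5, (2 ^ (2 * (i + 1)) - 1)) : False := by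
  have h1 : 2 ^ (4 * m + 2) ∣ 2 ^ (5 ^ 2) * ∏ i ∈ Finset.range 5, (2 ^ (2 * (i + 1)) - 1) := by
    refine dvd_trans ?_ h
    unfold sz
    rw [← pow_mul, show (2 * m + 1) * 2 = 4 * m + 2 by ring]
    exact dvd_mul_of_dvd_left (dvd_mul_right _ _) _
  have h2 := two_pow_dvd (by simp [Finset.prod_range_succ]) h1
  have h3 : m ≤ 5 := by omega
  simp only [Finset.prod_range_succ, Finset.prod_range_zero] at h
  interval_cases m
  all_goals (revert h; unfold sz; norm_num)

theorem sp_dvd {n k : ℕ} (h : n ≤ k) :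
    2 ^ (n ^ 2) * ∏ i ∈ Finset.range n, (2 ^ (2 * (i + 1)) - 1) ∣
      2 ^ (k ^ 2) * ∏ i ∈ Finset.range k, (2 ^ (2 * (i + 1)) - 1) := by
  refine mul_dvd_mul (pow_dvd_pow _ (Nat.pow_le_pow_left h 2)) ?_
  exact Finset.prod_dvd_prod_of_subset _ _ _ (Finset.range_subset_range.2 h)

section
variable {p n : ℕ} {Y U : Type u} [Group Y] [Finite Y] [AddCommGroup U] [Finite U]
    [DistribMulAction Y U] {X : Subgroup Y} {x : Y}

theorem solvable_X (F : F336.{u}) {B : U → U → ZMod 2} (h : SR (U := U) p 2 n X x B)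
    (hd : Nat.card X ∣ 2 ^ (n ^ 2) * ∏ i ∈ Finset.range n, (2 ^ (2 * (i + 1)) - 1))
    (hX : IsPSolvable 3 X) (hn : p = 5 ∨ n ≤ 5 ∨ (p = 7 ∧ n = 6)) : Group.IsSolvable X := by
  refine solvable_of_three F _ X rfl hX fun m hm hd' => ?_
  rcases hn with rfl | hn | ⟨rfl, rfl⟩
  · exact h.cop ((five_dvd_sz m).trans hd')
  · exact sz_not_dvd_five hm ((hd'.trans hd).trans (sp_dvd hn))
  · have h1 := sz_dvd_six hm (hd'.trans hd)
    subst h1
    exact h.cop (Dvd.dvd.trans (by unfold sz; norm_num) hd')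

theorem solvable_bound (F : F4374.{u}) {s : ℕ} {B : U → U → ZMod s} (h : SR (U := U) p s n X x B)
    (hX : Group.IsSolvable X) :
    p * (Subgroup.centralizer ({x} : Set Y)).index ≤ s ^ (6 * n) := by
  classical
  haveI := h.nX
  haveI : Fact p.Prime := ⟨h.hp⟩
  have hYs : Group.IsSolvable Y := by
    refine solvable_ext hX ?_
    have h1 : Nat.card (Y ⧸ X) = p := h.idx
    haveI : IsCyclic (Y ⧸ X) := isCyclic_of_prime_card h1
    exact Group.isSolvable_of_comm (fun a b => IsCyclic.commGroup.mul_comm a b)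
  haveI : FaithfulSMul Y U := ⟨fun {a b} hab => by
    have h1 : a⁻¹ * b = 1 := by
      apply h.faith
      intro u
      rw [mul_smul, ← hab u, inv_smul_smul]
    exact (inv_mul_eq_one.1 h1)⟩
  obtain ⟨v₁, v₂, v₃, hv⟩ := F Y U hYs (by
    intro A hA
    rcases h.irr A hA with rfl | rfl
    · exact ⟨⊤, fun _ _ _ => AddSubgroup.mem_top _, by simp, by simp⟩
    · exact ⟨⊥, by
        intro a w hw
        rw [AddSubgroup.mem_bot] at hw ⊢
        rw [hw, smul_zero], by simp, by simp⟩)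
  have h1 : Nat.card Y ≤ s ^ (6 * n) := by
    have h2 : Nat.card Y ≤ Nat.card (U × U × U) := by
      refine Nat.card_le_card_of_injective (fun a : Y => (a • v₁, a • v₂, a • v₃)) ?_
      intro a b hab
      simp only [Prod.mk.injEq] at hab
      have h3 : b⁻¹ * a = 1 := by
        apply hv
        · rw [mul_smul, hab.1, inv_smul_smul]
        · rw [mul_smul, hab.2.1, inv_smul_smul]
        · rw [mul_smul, hab.2.2, inv_smul_smul]
      exact (inv_mul_eq_one.1 h3).symm
    rw [Nat.card_prod, Nat.card_prod, h.card, ← pow_add, ← pow_add] at h2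
    rwa [show 2 * n + (2 * n + 2 * n) = 6 * n by ring] at h2
  refine le_trans ?_ h1
  have h2 : p ∣ Nat.card (Subgroup.centralizer ({x} : Set Y)) := by
    rw [← h.ord]
    exact Subgroup.orderOf_dvd_natCard _ (Subgroup.mem_centralizer_singleton_iff.2 rfl)
  have h3 := Subgroup.card_mul_index (Subgroup.centralizer ({x} : Set Y))
  rw [← h3]
  exact Nat.mul_le_mul_right _ (Nat.le_of_dvd Nat.card_pos h2)

end

end Cfsg.Agent.H37.NW
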